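import Cfsg.Agent.Leech.Model

set_option autoImplicit false
set_option linter.style.haveILetI false

/-! Automorphisms of vector stabilisers induced by normalising matrices. -/

namespace Cfsg.Agent.Leech

open Cfsg Cfsg.Spor Cfsg.Agent.Gol Cfsg.Agent.CGT Equiv

/-- The vector is `± a` or `± (a + b)` with `a`, `b` in the list. -/
noncomputable def inSpan (F : List (List ℤ)) (z : List ℤ) : Bool :=
  !(allL F fun a => !(decide (z = a) || !(allL F fun b =>
    !(decide (subL (subL (mapL (fun _ => 0) z) a) b = z)))))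

theorem inSpan_sound {F : List (List ℤ)} (hF : allL F inL = true) {z : List ℤ} (hz : z.length = 24)
    (h : inSpan F z = true) {g : Perm Λ} (hg : g ∈ KF F) {x : Λ} (hx : (x : V) = vec z) :
    g x = x := by
  rw [inSpan, Bool.not_eq_true', ← Bool.not_eq_true, allL_iff] at h
  push Not at h
  obtain ⟨a, ha, h⟩ := h
  have ha' := allL_iff.1 hF a ha
  rw [ne_eq, Bool.not_eq_true, Bool.not_eq_false', Bool.or_eq_true, decide_eq_true_eq] at h
  rcases h with h | h
  · have : x = lv a := Subtype.ext (by rw [hx, coe_lv ha', h])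
    rw [this, hg.2 a ha]
  · rw [Bool.not_eq_true', ← Bool.not_eq_true, allL_iff] at h
    push Not at h
    obtain ⟨b, hb, h⟩ := h
    have hb' := allL_iff.1 hF b hb
    rw [ne_eq, Bool.not_eq_true, Bool.not_eq_false', decide_eq_true_eq] at h
    have h0 : (mapL (fun _ => (0 : ℤ)) z).length = 24 := (length_mapL _ _).trans hz
    obtain ⟨h1, h2⟩ := subL_spec (h0.trans (inL_length ha').symm)
    obtain ⟨-, h3⟩ := subL_spec ((h1.trans h0).trans (inL_length hb').symm)
    have : x = -(lv a + lv b) := Subtype.ext (by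
      rw [hx, AddSubgroup.coe_neg, AddSubgroup.coe_add, coe_lv ha', coe_lv hb']
      funext p
      have h4 := h3 (ix p)
      rw [h, h2, nth_mapL _ 0 _ _ (hz ▸ ix_lt p)] at h4
      change nth 0 z (ix p) = -(nth 0 a (ix p) + nth 0 b (ix p))
      omega)
    rw [this, co0_neg hg.1, co0_add hg.1, hg.2 a ha, hg.2 b hb]

/-- The matrix is an involution on the listed vectors and maps them into their span. -/
noncomputable def normOK (M : MD) (F : List (List ℤ)) (A : List (List ℤ)) (rows : List ℕ) : Bool :=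
  matOK A && (M.rowsOK A rows && (allL F inL && ((allL F fun l => inSpan F (apL A l) &&
    (inL (apL A l) && decide (apL A (apL A l) = l))) &&
    (inL (apL A M.f) && decide (apL A (apL A M.f) = M.f)))))

/-- The network describes the action of the matrix. -/
noncomputable def netOK (M : MD) (k : ℕ) (rows : List ℕ) (nn : Net) : Bool :=
  validAll (2 ^ k) [nn] && (fixAbove k M.N [nn] && beqL (mulP rows M.P) (gatP [nn] (2 * 0) M.P))

/-- Conjugation by the network sends the generators to the given words. -/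
noncomputable def cnjOK (k : ℕ) (ns : List Net) (nn : Net) (W : List (List ℕ)) : Bool :=
  Nat.beq W.length ns.length && allLt ns.length fun j => allLt k fun t =>
    Nat.beq (gat [nn] 1 (gat ns (Nat.mul 2 j) (gat [nn] 0 (sl t k)))) (gatW ns (nth [] W j) (sl t k))

theorem cnjOK_sound {k : ℕ} {ns : List Net} {nn : Net} {W : List (List ℕ)}
    (hv' : validAll (2 ^ k) ns = true) (hv : validAll (2 ^ k) [nn] = true)
    (h : cnjOK k ns nn W = true) (j : ℕ) :
    netPerm [nn] 0 * netPerm ns j * (netPerm [nn] 0)⁻¹ = ev (CGT.lp ns) (nth [] W j) := by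
  simp only [cnjOK, Bool.and_eq_true, Nat.beq_eq] at h
  obtain ⟨hl, h⟩ := h
  by_cases hj : j < ns.length
  · have f0 : CGT.lp [nn] 0 = netPerm [nn] 0 := ext_two_mul _ 0
    have f1 : CGT.lp [nn] 1 = (netPerm [nn] 0)⁻¹ := ext_two_mul_add_one _ 0
    have h0 : netPerm [nn] 0 ∈ bddPerm (2 ^ k) := f0 ▸ lp_mem hv 0
    have h1 : netPerm ns j ∈ bddPerm (2 ^ k) := by
      have := lp_mem hv' (2 * j); rwa [CGT.lp, ext_two_mul] at this
    refine perm_eq_of_slices ((bddPerm _).mul_mem ((bddPerm _).mul_mem h0 h1) ((bddPerm _).inv_mem h0))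
      (ev_lp_mem hv' _) fun t ht i => ?_
    have := congrArg (fun x => Nat.testBit x i)
      (Nat.eq_of_beq_eq_true (allLt_iff.1 (allLt_iff.1 h j hj) t ht))
    simp only [testBit_gat hv, testBit_gat hv', testBit_gatW hv'] at this
    rw [← this, show Nat.mul 2 j = 2 * j from rfl, f0, f1, CGT.lp, ext_two_mul, Perm.mul_apply,
      Perm.mul_apply]
  · rw [netPerm_of_le ns (by omega), nth_eq, List.getD_eq_default _ _ (by omega)]
    simp

theorem MD.exists_aut_of {M : MD} (h : M.ok = true) (hs : sortedB M.P M.N = true)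
    {K : Subgroup (Perm Λ)} {F : List (List ℤ)} (hK : K = KF F) (hf : lv M.f = 0 ∨ M.f ∈ F)
    {γ : ℕ → K} {φ : K →* Perm ℕ} {k : ℕ} {ns : List Net} {ts : List Tab} {L : List ℕ}
    {ls : List Level} (C : Cert φ γ k ns ts L ls)
    (hφ : ∀ g : K, φ g ∈ bddPerm M.N ∧ ∀ i < M.N, M.Rel g i (φ g i)) {A : List (List ℤ)}
    {rows : List ℕ} {nn : Net} {W : List (List ℕ)} (h1 : normOK M F A rows = true)
    (h2 : netOK M k rows nn = true) (h3 : cnjOK k ns nn W = true) :
    ∃ β : MulAut K, ∀ j, β (γ j) = wg γ W j := by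
  simp only [normOK, Bool.and_eq_true, decide_eq_true_eq] at h1
  simp only [netOK, Bool.and_eq_true] at h2
  obtain ⟨a1, a2, a3, a4, a5, a6⟩ := h1
  obtain ⟨n, hn, hA⟩ := matOK_sound a1
  have key : ∀ l, inL l = true → inL (apL A l) = true → apL A (apL A l) = l →
      n⁻¹ (lv l) = n (lv l) := fun l b1 b2 b3 => by
    have e : n (lv l) = lv (apL A l) := Subtype.ext (by rw [hA.lv b1, coe_lv b2])
    rw [Perm.inv_eq_iff_eq, e]
    exact Subtype.ext (by rw [hA.lv b2, b3, coe_lv b1])
  have hf0 : inL M.f = true := by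
    simp only [MD.ok, Bool.and_eq_true] at h; exact h.1
  have hnf := MD.rowsOK_f h hA a2
  refine MD.exists_aut h hs hK hf C hφ hn (fun g hg => ?_) hnf (by rwa [key _ hf0 a5 a6])
    (fixAbove_sound h2.1 h2.2.1 0) (MD.rel_net h hn hA a2 h2.1 h2.2.2) (cnjOK_sound C.M.valid h2.1 h3)
  rw [hK] at hg ⊢
  refine ⟨Co0.mul_mem (Co0.mul_mem hn hg.1) (Co0.inv_mem hn), fun l hl => ?_⟩
  have b := allL_iff.1 a4 l hl
  simp only [Bool.and_eq_true, decide_eq_true_eq] at b
  have b1 := allL_iff.1 a3 l hl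
  rw [Perm.mul_apply, Perm.mul_apply, inSpan_sound a3 (inL_length b.2.1) b.1 hg
    (x := n⁻¹ (lv l)) (by rw [key l b1 b.2.1 b.2.2, hA.lv b1]), perm_apply_inv]

end Cfsg.Agent.Leech
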