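import Cfsg.Agent.Gol.Cert
import Cfsg.Prelude.Def_Spor_Conway

set_option autoImplicit false
set_option linter.style.haveILetI false

/-! The Leech lattice: membership, generators, integrality, elements of `Co0`. -/

namespace Cfsg.Agent.Leech

open Cfsg Cfsg.Spor Cfsg.Agent.Gol Cfsg.Agent.CGT Equiv
open scoped Pointwise symmDiff

/-- Integer vectors. -/
abbrev V : Type := GolayPt → ℤ

/-- The lattice as a type. -/
abbrev Λ : Type := leechLattice

/-- The positions with residue `2` or `3` modulo four. -/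
def hi (x : V) : Finset GolayPt := Finset.univ.filter fun p => 2 ≤ x p % 4

@[simp] theorem mem_hi {x : V} {p : GolayPt} : p ∈ hi x ↔ 2 ≤ x p % 4 := by simp [hi]

/-- The membership condition. -/
def InL (x : V) : Prop := (∃ m : ℤ, (∀ p, x p % 2 = m) ∧ (∑ p, x p) % 8 = 4 * m) ∧ IsC (hi x)

theorem mem_res {x : V} {k : ℤ} {p : GolayPt} :
    p ∈ (Finset.univ.filter fun i => x i ≡ k [ZMOD 4]) ↔ x p % 4 = k % 4 := by
  rw [Finset.mem_filter]; simp [Int.ModEq]

theorem mem_leechSet_iff {x : V} : x ∈ leechSet ↔ InL x := by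
  constructor
  · rintro ⟨m, h1, h2, h3⟩
    refine ⟨⟨m % 2, h1, ?_⟩, ?_⟩
    · unfold Int.ModEq at h2; omega
    · have : hi x = Finset.univ.filter fun i => x i ≡ m % 2 + 2 [ZMOD 4] := by
        ext p
        have := h1 p
        rw [mem_res, mem_hi]
        unfold Int.ModEq at this
        omega
      rw [this]; exact h3 _
  · rintro ⟨⟨m, h1, h2⟩, h3⟩
    have hm := h1 none
    refine ⟨m, fun i => ?_, ?_, fun k => ?_⟩
    · have := h1 i
      unfold Int.ModEq; omega
    · unfold Int.ModEq; omega
    · by_cases hk : k % 4 = m + 2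
      · have : (Finset.univ.filter fun i => x i ≡ k [ZMOD 4]) = hi x := by
          ext p
          have := h1 p
          rw [mem_res, mem_hi]
          omega
        rw [this]; exact h3
      by_cases hk' : k % 4 = m
      · have : (Finset.univ.filter fun i => x i ≡ k [ZMOD 4]) = (hi x)ᶜ := by
          ext p
          have := h1 p
          rw [mem_res, Finset.mem_compl, mem_hi]
          omega
        rw [this]; exact h3.compl
      · have : (Finset.univ.filter fun i => x i ≡ k [ZMOD 4]) = ∅ := by
          ext p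
          have := h1 p
          rw [mem_res]
          simp only [Finset.notMem_empty, iff_false]
          omega
        rw [this]; exact isC_empty

theorem InL.add {x y : V} (hx : InL x) (hy : InL y) : InL (x + y) := by
  obtain ⟨⟨m, h1, h2⟩, h3⟩ := hx
  obtain ⟨⟨n, h4, h5⟩, h6⟩ := hy
  have hm := h1 none
  have hn := h4 none
  refine ⟨⟨(m + n) % 2, fun p => ?_, ?_⟩, ?_⟩
  · have := h1 p
    have := h4 p
    rw [Pi.add_apply]; omega
  · simp only [Pi.add_apply, Finset.sum_add_distrib]; omega
  · by_cases h : m + n = 2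
    · have : hi (x + y) = (hi x ∆ hi y)ᶜ := by
        ext p
        have := h1 p
        have := h4 p
        simp only [mem_hi, Finset.mem_compl, Finset.mem_symmDiff, Pi.add_apply]
        omega
      rw [this]; exact (h3.symmDiff h6).compl
    · have : hi (x + y) = hi x ∆ hi y := by
        ext p
        have := h1 p
        have := h4 p
        simp only [mem_hi, Finset.mem_symmDiff, Pi.add_apply]
        omega
      rw [this]; exact h3.symmDiff h6

theorem InL.neg {x : V} (hx : InL x) : InL (-x) := by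
  obtain ⟨⟨m, h1, h2⟩, h3⟩ := hx
  have hm := h1 none
  refine ⟨⟨m, fun p => ?_, ?_⟩, ?_⟩
  · have := h1 p
    rw [Pi.neg_apply]; omega
  · simp only [Pi.neg_apply, Finset.sum_neg_distrib]; omega
  · by_cases h : m = 1
    · have : hi (-x) = (hi x)ᶜ := by
        ext p
        have := h1 p
        simp only [mem_hi, Finset.mem_compl, Pi.neg_apply]
        omega
      rw [this]; exact h3.compl
    · have : hi (-x) = hi x := by
        ext p
        have := h1 p
        simp only [mem_hi, Pi.neg_apply]
        omega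
      rw [this]; exact h3

theorem inL_zero : InL 0 := ⟨⟨0, fun _ => rfl, by simp⟩, by
  have : hi 0 = ∅ := by ext p; simp
  rw [this]; exact isC_empty⟩

theorem mem_leech {x : V} : x ∈ leechLattice ↔ InL x := by
  refine ⟨fun h => ?_, fun h => AddSubgroup.subset_closure (mem_leechSet_iff.2 h)⟩
  induction h using AddSubgroup.closure_induction with
  | mem x hx => exact mem_leechSet_iff.1 hx
  | zero => exact inL_zero
  | add x y _ _ hx hy => exact hx.add hy
  | neg x _ hx => exact hx.neg

/-- The indicator vector. -/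
def ind (S : Finset GolayPt) (a : ℤ) : V := fun p => if p ∈ S then a else 0

theorem sum_ind (S : Finset GolayPt) (a : ℤ) : ∑ p, ind S a p = S.card * a := by
  simp [ind]

theorem ind_two_mem {S : Finset GolayPt} (h : IsC S) : ind S 2 ∈ leechLattice := by
  refine mem_leech.2 ⟨⟨0, fun p => ?_, ?_⟩, ?_⟩
  · unfold ind; split_ifs <;> rfl
  · have := h.four_dvd
    rw [sum_ind]; omega
  · have : hi (ind S 2) = S := by
      ext p
      rw [mem_hi, ind]
      split_ifs with h <;> simp [h]
    rwa [this]

theorem four_mem {x : V} (h : ∀ p, x p % 4 = 0) (h' : (∑ p, x p) % 8 = 0) : x ∈ leechLattice := by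
  refine mem_leech.2 ⟨⟨0, fun p => ?_, by omega⟩, ?_⟩
  · have := h p; omega
  · have : hi x = ∅ := by
      ext p
      have := h p
      simp only [mem_hi, Finset.notMem_empty, iff_false]; omega
    rw [this]; exact isC_empty

/-- The vector `(-3, 1, …, 1)`. -/
def w0 : V := fun p => if p = none then -3 else 1

theorem w0_mem : w0 ∈ leechLattice :=
  AddSubgroup.subset_closure (mem_leechSet_of_const_mod_four w0 1 1 (by decide) (by decide) (by decide))

theorem w0_odd (p : GolayPt) : w0 p % 2 = 1 := by unfold w0; split_ifs <;> rfl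

/-- `4 e_∞ + 4 e_p`. -/
def e44 (p : GolayPt) : V := Pi.single none 4 + Pi.single p 4

theorem leech_le {S : AddSubgroup V} (h4 : ∀ p, e44 p ∈ S)
    (h2 : ∀ j < 12, ind (fs (nth 0 bas j)) 2 ∈ S) (hw : w0 ∈ S) : leechLattice ≤ S := by
  have k4 : ∀ x : V, (∀ p, x p % 4 = 0) → (∑ p, x p) % 8 = 0 → x ∈ S := by
    intro x h h'
    have e : x = ∑ p, (x p / 4) • e44 p - ((∑ p, x p) / 8) • e44 none := by
      have h3 : ∑ p, x p = 4 * ∑ p, x p / 4 := by
        rw [Finset.mul_sum]
        exact Finset.sum_congr rfl fun p _ => by have := h p; omega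
      funext q
      simp only [e44, Pi.sub_apply, Finset.sum_apply, Pi.smul_apply, Pi.add_apply, smul_eq_mul,
        mul_add, Finset.sum_add_distrib, Pi.single_apply, mul_ite, mul_zero,
        Finset.sum_ite_eq, Finset.mem_univ, if_true]
      have := h q
      split_ifs with hq
      · simp only [← Finset.sum_mul]; omega
      · simp only [Finset.sum_const_zero]; omega
    rw [e]
    exact S.sub_mem (S.sum_mem fun p _ => S.zsmul_mem (h4 p) _) (S.zsmul_mem (h4 _) _)
  have k2 : ∀ T, IsC T → ind T 2 ∈ S := by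
    let M : AddSubmonoid (GolayPt → ZMod 2) :=
      { carrier := {w | w ∈ golayCode ∧ ind (support₂ w) 2 ∈ S}
        zero_mem' := ⟨golayCode.zero_mem, by
          have : ind (support₂ (0 : GolayPt → ZMod 2)) 2 = 0 := by funext p; simp [ind, support₂]
          rw [this]; exact S.zero_mem⟩
        add_mem' := fun {a b} ha hb => ⟨golayCode.add_mem ha.1 hb.1, by
          have e : ind (support₂ (a + b)) 2 = ind (support₂ a) 2 + ind (support₂ b) 2 -
              ind (support₂ a ∩ support₂ b) 4 := by
            funext p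
            rw [support_add]
            simp only [ind, Pi.sub_apply, Pi.add_apply, Finset.mem_symmDiff, Finset.mem_inter]
            by_cases h1 : p ∈ support₂ a <;> by_cases h2 : p ∈ support₂ b <;> simp [h1, h2]
          rw [e]
          refine S.sub_mem (S.add_mem ha.2 hb.2) (k4 _ (fun p => ?_) ?_)
          · unfold ind; split_ifs <;> rfl
          · have := (isC_support.2 ha.1).even_inter (isC_support.2 hb.1)
            rw [sum_ind]; omega⟩ }
    rintro _ ⟨w, hw, rfl⟩
    have : w ∈ M := by
      rw [mem_sys hw]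
      refine M.sum_mem fun i hi => ?_
      have h01 : ∀ a : ZMod 2, a = 0 ∨ a = 1 := by decide
      rcases h01 (w (pt i)) with h | h
      · rw [h, zero_smul]; exact M.zero_mem
      · rw [h, one_smul]
        exact ⟨bas_mem (Finset.mem_range.1 hi), by rw [support_wd]; exact h2 i (Finset.mem_range.1 hi)⟩
    exact this.2
  have ke : ∀ x ∈ leechLattice, (∀ p, x p % 2 = 0) → x ∈ S := by
    intro x hx h
    have h3 := (mem_leech.1 hx).2
    obtain ⟨⟨m, h5, h6⟩, -⟩ := mem_leech.1 (leechLattice.sub_mem hx (ind_two_mem h3))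
    have h7 : ∀ p, (x - ind (hi x) 2) p % 4 = 0 := by
      intro p
      have := h p
      simp only [Pi.sub_apply, ind, mem_hi]
      split_ifs <;> omega
    have h8 := h5 none
    have h9 := h7 none
    have := S.add_mem (k4 _ h7 (by omega)) (k2 _ h3)
    rwa [sub_add_cancel] at this
  intro x hx
  obtain ⟨⟨m, h1, -⟩, -⟩ := mem_leech.1 hx
  have hm := h1 none
  by_cases h : m = 0
  · exact ke x hx fun p => by rw [h1, h]
  · have := S.add_mem (ke _ (leechLattice.sub_mem hx w0_mem) fun p => by
      have := h1 p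
      have := w0_odd p
      rw [Pi.sub_apply]; omega) hw
    rwa [sub_add_cancel] at this

/-! ### Inner products -/

theorem dot_comm (x y : V) : dotInt x y = dotInt y x := by simp [dotInt, mul_comm]

theorem dot_add_left (x y z : V) : dotInt (x + y) z = dotInt x z + dotInt y z := by
  simp [dotInt, add_mul, Finset.sum_add_distrib]

theorem dot_add_right (x y z : V) : dotInt x (y + z) = dotInt x y + dotInt x z := by
  simp [dotInt, mul_add, Finset.sum_add_distrib]

theorem dot_smul_left (a : ℤ) (x y : V) : dotInt (a • x) y = a * dotInt x y := by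
  simp only [dotInt, Finset.mul_sum, mul_assoc, Pi.smul_apply, smul_eq_mul]

theorem dot_neg_left (x y : V) : dotInt (-x) y = -dotInt x y := by simp [dotInt]

theorem dot_sub_left (x y z : V) : dotInt (x - y) z = dotInt x z - dotInt y z := by
  simp [dotInt, sub_mul, Finset.sum_sub_distrib]

theorem dot_zero_left (y : V) : dotInt 0 y = 0 := by simp [dotInt]

theorem dot_single_right (x : V) (p : GolayPt) (a : ℤ) : dotInt x (Pi.single p a) = x p * a := by
  simp [dotInt, Pi.single_apply]

theorem dot_self (x : V) : dotInt x x = sqNorm x := by simp [dotInt, sqNorm, sq]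

theorem sqNorm_add (x y : V) : sqNorm (x + y) = sqNorm x + 2 * dotInt x y + sqNorm y := by
  rw [← dot_self, ← dot_self, ← dot_self, dot_add_left, dot_add_right, dot_add_right, dot_comm y x]
  ring

theorem dot_w0 (y : V) : dotInt w0 y = ∑ p, y p - 4 * y none := by
  have : w0 = (fun _ => 1) + Pi.single none (-4) := by decide
  rw [this, dot_add_left, dot_comm (Pi.single _ _), dot_single_right]
  simp [dotInt]; ring

theorem eight_dvd_dot {x y : V} (hx : x ∈ leechLattice) (hy : y ∈ leechLattice) :
    8 ∣ dotInt x y := by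
  have k0 : ∀ y ∈ leechLattice, 8 ∣ dotInt w0 y := by
    intro y hy
    obtain ⟨⟨m, h1, h2⟩, -⟩ := mem_leech.1 hy
    have := h1 none
    rw [dot_w0]; omega
  have k1 : ∀ x ∈ leechLattice, ∀ y ∈ leechLattice, (∀ p, x p % 2 = 0) → (∀ p, y p % 2 = 0) →
      8 ∣ dotInt x y := by
    intro x hx y hy h1 h2
    have h3 := (mem_leech.1 hx).2.even_inter (mem_leech.1 hy).2
    have h4 : 8 ∣ ∑ p, (x p * y p - ind (hi x ∩ hi y) 4 p) := Finset.dvd_sum fun p _ => by
      obtain ⟨a, ha⟩ : ∃ a, x p = 4 * a ∨ x p = 4 * a + 2 := ⟨x p / 4, by have := h1 p; omega⟩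
      obtain ⟨b, hb⟩ : ∃ b, y p = 4 * b ∨ y p = 4 * b + 2 := ⟨y p / 4, by have := h2 p; omega⟩
      simp only [ind, Finset.mem_inter, mem_hi]
      rcases ha with ha | ha <;> rcases hb with hb | hb <;> rw [ha, hb]
      · rw [if_neg (by omega)]; exact ⟨2 * a * b, by ring⟩
      · rw [if_neg (by omega)]; exact ⟨2 * a * b + a, by ring⟩
      · rw [if_neg (by omega)]; exact ⟨2 * a * b + b, by ring⟩
      · rw [if_pos (by omega)]; exact ⟨2 * a * b + a + b, by ring⟩
    rw [Finset.sum_sub_distrib, sum_ind] at h4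
    unfold dotInt
    omega
  have k2 : ∀ x ∈ leechLattice, (∀ p, x p % 2 = 0) ∨ ∀ p, (x - w0) p % 2 = 0 := by
    intro x hx
    obtain ⟨⟨m, h1, -⟩, -⟩ := mem_leech.1 hx
    have hm := h1 none
    by_cases h : m = 0
    · exact Or.inl fun p => by rw [h1, h]
    · refine Or.inr fun p => ?_
      have := h1 p
      have := w0_odd p
      rw [Pi.sub_apply]; omega
  have k3 : ∀ x ∈ leechLattice, ∀ y ∈ leechLattice, (∀ p, y p % 2 = 0) → 8 ∣ dotInt x y := by
    intro x hx y hy h
    rcases k2 x hx with h1 | h1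
    · exact k1 x hx y hy h1 h
    · have := k1 _ (leechLattice.sub_mem hx w0_mem) y hy h1 h
      have := k0 y hy
      rw [dot_sub_left] at *
      omega
  rcases k2 y hy with h1 | h1
  · exact k3 x hx y hy h1
  · have h2 := k3 x hx _ (leechLattice.sub_mem hy w0_mem) h1
    have h3 := k0 x hx
    rw [dot_comm, dot_sub_left, dot_comm] at h2
    omega

/-! ### Elements of `Co0` -/

theorem co0_add {g : Perm Λ} (hg : g ∈ Co0) (x y : Λ) : g (x + y) = g x + g y := hg.1 x y

theorem co0_norm {g : Perm Λ} (hg : g ∈ Co0) (x : Λ) : sqNorm (g x : V) = sqNorm (x : V) := hg.2 x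

theorem co0_dot {g : Perm Λ} (hg : g ∈ Co0) (x y : Λ) :
    dotInt (g x : V) (g y : V) = dotInt (x : V) (y : V) := by
  have := co0_norm hg (x + y)
  rw [co0_add hg, AddSubgroup.coe_add, AddSubgroup.coe_add, sqNorm_add, sqNorm_add, co0_norm hg,
    co0_norm hg] at this
  omega

/-- An element of `Co0` as an additive map. -/
def toAdd {g : Perm Λ} (hg : g ∈ Co0) : Λ →+ Λ := AddMonoidHom.mk' g hg.1

theorem toAdd_apply {g : Perm Λ} (hg : g ∈ Co0) (x : Λ) : toAdd hg x = g x := rfl

theorem co0_zsmul {g : Perm Λ} (hg : g ∈ Co0) (a : ℤ) (x : Λ) : g (a • x) = a • g x :=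
  map_zsmul (toAdd hg) a x

theorem co0_sub {g : Perm Λ} (hg : g ∈ Co0) (x y : Λ) : g (x - y) = g x - g y :=
  map_sub (toAdd hg) x y

theorem co0_neg {g : Perm Λ} (hg : g ∈ Co0) (x : Λ) : g (-x) = -g x := map_neg (toAdd hg) x

theorem sq_le_sqNorm (x : V) (p : GolayPt) : x p ^ 2 ≤ sqNorm x :=
  Finset.single_le_sum (f := fun p => x p ^ 2) (fun _ _ => sq_nonneg _) (Finset.mem_univ p)

theorem finite_norm (n : ℤ) : {x : Λ | sqNorm (x : V) = n}.Finite := by
  have h : (Set.pi Set.univ fun _ : GolayPt => Set.Icc (-n) n).Finite :=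
    Set.Finite.pi fun _ => Set.finite_Icc _ _
  refine Set.Finite.of_injOn (f := fun x : Λ => (x : V)) ?_ Subtype.val_injective.injOn h
  intro x hx p _
  have h1 := sq_le_sqNorm x p
  rw [show sqNorm (x : V) = n from hx] at h1
  constructor <;> nlinarith [sq_nonneg ((x : V) p + 1), sq_nonneg ((x : V) p - 1)]

theorem exists_co0 (f : Λ → Λ) (ha : ∀ x y, f (x + y) = f x + f y)
    (hn : ∀ x, sqNorm (f x : V) = sqNorm (x : V)) : ∃ g ∈ Co0, ∀ x, g x = f x := by
  have hi : Function.Injective f := by
    refine (injective_iff_map_eq_zero (AddMonoidHom.mk' f ha)).2 fun x hx => ?_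
    have h1 := hn x
    rw [show f x = 0 from hx] at h1
    ext p
    have h2 := sq_le_sqNorm x p
    have h3 : sqNorm ((0 : Λ) : V) = 0 := by simp [sqNorm]
    rw [← h1, h3] at h2
    exact pow_eq_zero_iff (two_ne_zero) |>.1 (le_antisymm h2 (sq_nonneg _))
  have hs : Function.Surjective f := fun y => by
    have := (((finite_norm (sqNorm (y : V))).injOn_iff_bijOn_of_mapsTo (f := f)
      (fun x hx => (hn x).trans hx)).1 hi.injOn).surjOn
    obtain ⟨x, -, hx⟩ := this (show y ∈ _ from rfl)
    exact ⟨x, hx⟩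
  exact ⟨Equiv.ofBijective f ⟨hi, hs⟩, ⟨ha, hn⟩, fun _ => rfl⟩

/-- The sign attached to a set. -/
def sg (S : Finset GolayPt) (p : GolayPt) : ℤ := if p ∈ S then -1 else 1

theorem sg_sq (S : Finset GolayPt) (p : GolayPt) : sg S p ^ 2 = 1 := by
  unfold sg; split_ifs <;> rfl

theorem exists_sign {S : Finset GolayPt} (hS : IsC S) :
    ∃ g ∈ Co0, ∀ (x : Λ) p, (g x : V) p = sg S p * (x : V) p := by
  have key : ∀ x : Λ, (fun p => sg S p * (x : V) p) ∈ leechLattice := by
    intro x
    obtain ⟨⟨m, h1, h2⟩, h3⟩ := mem_leech.1 x.2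
    have hm := h1 none
    have h4 := eight_dvd_dot x.2 (ind_two_mem hS)
    refine mem_leech.2 ⟨⟨m, fun p => ?_, ?_⟩, ?_⟩
    · have := h1 p
      simp only [sg]; split_ifs <;> omega
    · have : ∑ p, sg S p * (x : V) p = ∑ p, (x : V) p - dotInt (x : V) (ind S 2) := by
        rw [dotInt, ← Finset.sum_sub_distrib]
        refine Finset.sum_congr rfl fun p _ => ?_
        unfold sg ind; split_ifs <;> ring
      rw [this]; omega
    · by_cases h : m = 0
      · have : hi (fun p => sg S p * (x : V) p) = hi x := by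
          ext p
          have := h1 p
          simp only [mem_hi, sg]; split_ifs <;> omega
        rwa [this]
      · have : hi (fun p => sg S p * (x : V) p) = hi x ∆ S := by
          ext p
          have := h1 p
          simp only [mem_hi, sg, Finset.mem_symmDiff]
          split_ifs with h <;> simp only [h, not_true, not_false_iff, and_true, and_false,
            true_and, false_and, or_false, false_or] <;> omega
        rw [this]; exact h3.symmDiff hS
  obtain ⟨g, hg, e⟩ := exists_co0 (fun x => ⟨_, key x⟩)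
    (fun x y => Subtype.ext (funext fun p => by simp [mul_add]))
    (fun x => by simp [sqNorm, mul_pow, sg_sq])
  exact ⟨g, hg, fun x p => by rw [e]⟩

theorem exists_perm {σ : Perm GolayPt} (hσ : σ ∈ M24) :
    ∃ g ∈ Co0, ∀ (x : Λ) p, (g x : V) p = (x : V) (σ⁻¹ p) := by
  have key : ∀ x : Λ, (fun p => (x : V) (σ⁻¹ p)) ∈ leechLattice := by
    intro x
    obtain ⟨⟨m, h1, h2⟩, h3⟩ := mem_leech.1 x.2
    refine mem_leech.2 ⟨⟨m, fun p => h1 _, ?_⟩, ?_⟩
    · rwa [Equiv.sum_comp σ⁻¹ (x : V)]
    · have : hi (fun p => (x : V) (σ⁻¹ p)) = σ • hi x := by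
        ext p
        rw [mem_smul, mem_hi, mem_hi]
      rw [this]; exact h3.smul hσ
  obtain ⟨g, hg, e⟩ := exists_co0 (fun x => ⟨_, key x⟩)
    (fun x y => Subtype.ext (funext fun p => by simp))
    (fun x => Equiv.sum_comp σ⁻¹ fun p => (x : V) p ^ 2)
  exact ⟨g, hg, fun x p => by rw [e]⟩

end Cfsg.Agent.Leech
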