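import Cfsg.Agent.Leech.Count

set_option autoImplicit false
set_option linter.style.haveILetI false
set_option maxRecDepth 100000

/-! Upper bounds for the orders of the Conway groups; the centre of `Co0`. -/

namespace Cfsg.Agent.Leech

open Cfsg Cfsg.Spor Cfsg.Agent.Gol Cfsg.Agent.CGT Equiv MulAction
open scoped Pointwise symmDiff commutatorElement

theorem bdS_of_rel {α β : Type*} {Y : Set α} {Z : Set β} {n : ℕ} (h : BdS Z n) (r : α → β → Prop)
    (h1 : ∀ a ∈ Y, ∃ b ∈ Z, r a b) (h2 : ∀ a a' b, r a b → r a' b → a = a') : BdS Y n := by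
  choose f hf using h1
  have : BdS (Set.univ : Set Y) n := h.of_injOn (fun a => f a.1 a.2) (fun a _ => (hf a.1 a.2).1)
    fun a _ a' _ e => Subtype.ext (h2 _ _ _ (hf a.1 a.2).2 (by
      have e' : f a.1 a.2 = f a'.1 a'.2 := e
      rw [e']; exact (hf a'.1 a'.2).2))
  have h3 := bdS_image this Subtype.val
  rwa [Set.image_univ, Subtype.range_coe] at h3

/-- `8 e_p`. -/
def e8 (p : GolayPt) : Λ := ⟨Pi.single p 8, four_mem
  (fun q => by rw [Pi.single_apply]; split_ifs <;> rfl) (by simp)⟩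

theorem coe_e8 (p : GolayPt) : (e8 p : V) = Pi.single p 8 := rfl

/-- `4 e_∞ + 4 e_p`. -/
def f44 (p : GolayPt) : Λ := ⟨e44 p, four_mem
  (fun q => by simp only [e44, Pi.add_apply, Pi.single_apply]; split_ifs <;> rfl)
  (by simp only [e44, Pi.add_apply, Finset.sum_add_distrib, Finset.sum_pi_single', Finset.mem_univ,
    if_true]; rfl)⟩

theorem e8_eq (p : GolayPt) : e8 p = (2 : ℤ) • f44 p - e8 none := by
  ext q
  simp only [e8, f44, e44, AddSubgroupClass.coe_sub, AddSubgroupClass.coe_zsmul, Pi.sub_apply,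
    Pi.smul_apply, Pi.add_apply, Pi.single_apply, smul_eq_mul]
  split_ifs <;> rfl

theorem sqNorm_e44 : ∀ p, p ≠ none → sqNorm (e44 p) = 32 := by decide +kernel

theorem u_add : leechU + leechU' = e8 none := Subtype.ext (by decide +kernel)
theorem u_sub : leechU - leechU' = e8 (some 0) := Subtype.ext (by decide +kernel)

/-- `g` is the monomial map given by `σ` and the signs `S`. -/
def Mono (g : Perm Λ) (σ : Perm GolayPt) (S : Finset GolayPt) : Prop :=
  ∀ (x : Λ) p, (g x : V) (σ p) = sg S p * (x : V) p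

theorem Mono.eq {g g' : Perm Λ} {σ : Perm GolayPt} {S : Finset GolayPt} (h : Mono g σ S)
    (h' : Mono g' σ S) : g = g' := by
  ext x q
  obtain ⟨p, rfl⟩ := σ.surjective q
  rw [h, h']

theorem Mono.fix {g : Perm Λ} {σ : Perm GolayPt} {S : Finset GolayPt} (h : Mono g σ S) {p : GolayPt}
    (e : g (e8 p) = e8 p) : σ p = p ∧ p ∉ S := by
  have := h (e8 p) p
  rw [e, coe_e8, Pi.single_apply, Pi.single_eq_same, sg] at this
  split_ifs at this with h1 h2 h2
  · omega
  · exact ⟨h1, h2⟩
  · omega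
  · omega

theorem monomial_of_frame {g : Perm Λ} (hg : g ∈ Co0)
    (k : ∀ p, ∃ q, ∃ ε : ℤ, (ε = 1 ∨ ε = -1) ∧ (g (e8 p) : V) = Pi.single q (8 * ε)) :
    ∃ σ ∈ M24, ∃ S, IsC S ∧ Mono g σ S := by
  choose τ ε hε hτ using k
  have k1 : ∀ (x : Λ) p, (g x : V) (τ p) = ε p * (x : V) p := fun x p => by
    have := co0_dot hg x (e8 p)
    rw [hτ, coe_e8, dot_single_right, dot_single_right] at this
    rcases hε p with h | h <;> rw [h] at this ⊢ <;> omega
  have k2 : Function.Injective τ := fun p q e => by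
    by_contra hne
    have h1 := k1 (e8 p) p
    rw [e, k1, coe_e8, Pi.single_eq_same, Pi.single_eq_of_ne (Ne.symm hne)] at h1
    rcases hε p with h | h <;> omega
  let σ : Perm GolayPt := Equiv.ofBijective τ (Finite.injective_iff_bijective.1 k2)
  let S : Finset GolayPt := Finset.univ.filter fun p => ε p = -1
  have hM : Mono g σ S := fun x p => by
    have : sg S p = ε p := by
      simp only [sg, S, Finset.mem_filter, Finset.mem_univ, true_and]
      rcases hε p with h | h <;> simp [h]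
    rw [this]; exact k1 x p
  have hσ : σ ∈ M24 := mem_M24 fun T hT => by
    have h1 := (mem_leech.1 (g ⟨_, ind_two_mem hT⟩).2).2
    have : hi (g ⟨_, ind_two_mem hT⟩ : V) = σ • T := by
      ext q
      obtain ⟨p, rfl⟩ := σ.surjective q
      rw [mem_hi, hM, mem_smul, perm_inv_apply]
      simp only [sg, ind]
      split_ifs with h1 h2 h2 <;> simp [h2]
    rwa [this] at h1
  refine ⟨σ, hσ, S, ?_, hM⟩
  have h1 := (mem_leech.1 (g ⟨_, w0_mem⟩).2).2
  have : hi (g ⟨_, w0_mem⟩ : V) = σ • S := by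
    ext q
    obtain ⟨p, rfl⟩ := σ.surjective q
    rw [mem_hi, hM, mem_smul, perm_inv_apply]
    simp only [sg, w0]
    split_ifs with h1 h2 h2 <;> simp [h1]
  rw [this] at h1
  have := h1.smul (M24.inv_mem hσ)
  rwa [inv_smul_smul] at this

theorem monomial {g : Perm Λ} (hg : g ∈ Co0) (h : g (e8 none) = e8 none) :
    ∃ σ ∈ M24, ∃ S, IsC S ∧ Mono g σ S := by
  refine monomial_of_frame hg fun p => ?_
  by_cases hp : p = none
  · exact ⟨none, 1, Or.inl rfl, by rw [hp, h]; rfl⟩
  have h1 : sqNorm (g (f44 p) : V) = 32 := (co0_norm hg _).trans (sqNorm_e44 p hp)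
  have h2 : (g (f44 p) : V) none = 4 := by
    have := co0_dot hg (f44 p) (e8 none)
    rw [h, coe_e8, dot_single_right, dot_single_right] at this
    have h3 : (f44 p : V) none = 4 := by simp [f44, e44, Ne.symm hp]
    omega
  have h3 : ∃ q, ∃ ε : ℤ, (ε = 1 ∨ ε = -1) ∧
      (g (f44 p) : V) = Pi.single none 4 + Pi.single q (4 * ε) := by
    rcases shape (g (f44 p)).2 h1 with ⟨i, j, hij, a, b, ha, hb, e⟩ | h4 | ⟨i, h4⟩
    · rw [e] at h2 ⊢
      simp only [Pi.add_apply, Pi.single_apply] at h2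
      split_ifs at h2 with h5 h6 h6
      · exact absurd (h5.symm.trans h6) hij
      · refine ⟨j, b / 4, by omega, ?_⟩
        rw [← h5, show a = 4 by omega, show 4 * (b / 4) = b by omega]
      · refine ⟨i, a / 4, by omega, ?_⟩
        rw [← h6, show b = 4 by omega, show 4 * (a / 4) = a by omega, add_comm]
      · omega
    · have := h4.2 none
      split_ifs at this <;> omega
    · rw [h4, vC, sg] at h2
      split_ifs at h2 <;> omega
  obtain ⟨q, ε, hε, e⟩ := h3
  refine ⟨q, ε, hε, ?_⟩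
  rw [e8_eq p, co0_sub hg, co0_zsmul hg, h, AddSubgroupClass.coe_sub, AddSubgroupClass.coe_zsmul, e,
    coe_e8]
  funext r
  simp only [Pi.sub_apply, Pi.smul_apply, Pi.add_apply, Pi.single_apply, smul_eq_mul]
  split_ifs <;> ring

theorem mono_uu {g : Perm Λ} (hg : g ∈ Co0) (h : g leechU = leechU) (h' : g leechU' = leechU') :
    ∃ σ ∈ M22, ∃ S, IsC S ∧ none ∉ S ∧ some 0 ∉ S ∧ Mono g σ S := by
  have h1 : g (e8 none) = e8 none := by rw [← u_add, co0_add hg, h, h']
  have h2 : g (e8 (some 0)) = e8 (some 0) := by rw [← u_sub, co0_sub hg, h, h']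
  obtain ⟨σ, hσ, S, hS, hM⟩ := monomial hg h1
  exact ⟨σ, ⟨⟨hσ, (hM.fix h1).1⟩, (hM.fix h2).1⟩, S, hS, (hM.fix h1).2, (hM.fix h2).2, hM⟩

theorem bd_M22 : BdS (M22 : Set (Perm GolayPt)) 443520 := by
  rw [← bd_iff, M22_eq]; exact m22_bd

theorem bd_signs : BdS {S : Finset GolayPt | IsC S ∧ none ∉ S ∧ some 0 ∉ S} 1024 := by
  refine bdS_of_rel (Z := (Finset.range 1024 : Set ℕ)) ((BdS.finset _).le (by simp))
    (fun S c => S = fs (cw (4 * c))) ?_ fun a a' b h h' => h.trans h'.symm
  rintro S ⟨h1, h2, h3⟩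
  obtain ⟨c, hc, rfl⟩ := h1.exists_cw
  have h4 := (cw_spec hc).2.1
  have h5 : ∀ t < 2, c.testBit t = (cw c).testBit t := fun t ht => by
    conv_lhs => rw [← h4]
    rw [Nat.testBit_and, show (4095 : ℕ) = 2 ^ 12 - 1 by norm_num, Nat.testBit_two_pow_sub_one]
    simp [show t < 12 by omega]
  rw [mem_fs, ix_none, ← h5 0 (by omega), Nat.testBit_zero] at h2
  rw [mem_fs, ix_zero, ← h5 1 (by omega), Nat.testBit_succ, Nat.testBit_zero] at h3
  simp only [decide_eq_true_eq] at h2 h3
  exact ⟨c / 4, by simp; omega, by rw [show 4 * (c / 4) = c by omega]⟩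

theorem bd_N : Bd (Co2 ⊓ stabilizer (Perm Λ) leechU') 454164480 := by
  rw [bd_iff]
  refine bdS_of_rel (bd_M22.prod bd_signs) (fun g z => Mono g z.1 z.2) ?_ fun a a' b h h' => h.eq h'
  rintro g ⟨⟨h1, h2⟩, h3⟩
  obtain ⟨σ, hσ, S, h4, h5, h6, h7⟩ := mono_uu h1 h2 h3
  exact ⟨(σ, S), ⟨hσ, h4, h5, h6⟩, h7⟩

theorem vecV_mod : ∀ p, vecV p % 4 = 3 := by decide +kernel

theorem mono_uuv {g : Perm Λ} (hg : g ∈ Co0) (hv : g leechV = leechV) (h : g leechU = leechU)
    (h' : g leechU' = leechU') : ∃ σ ∈ M22, Mono g σ ∅ := by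
  obtain ⟨σ, hσ, S, -, -, -, h7⟩ := mono_uu hg h h'
  have : S = ∅ := Finset.eq_empty_of_forall_notMem fun p hp => by
    have h1 := h7 leechV p
    rw [hv, sg, if_pos hp] at h1
    have h2 := vecV_mod p
    have h3 := vecV_mod (σ p)
    change vecV (σ p) = -1 * vecV p at h1
    omega
  exact ⟨σ, hσ, this ▸ h7⟩

theorem bd_M : Bd (McL ⊓ stabilizer (Perm Λ) leechU') 443520 := by
  rw [bd_iff]
  refine bdS_of_rel bd_M22 (fun g σ => Mono g σ ∅) ?_ fun a a' b h h' => h.eq h'
  rintro g ⟨⟨⟨h1, h2⟩, h3⟩, h4⟩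
  exact mono_uuv h1 h2 h3 h4

theorem dot_u (x : V) : dotInt x vecU = 4 * (x none + x (some 0)) := by
  have : vecU = Pi.single none 4 + Pi.single (some 0) 4 := by decide +kernel
  rw [this, dot_add_right, dot_single_right, dot_single_right]; ring

theorem dot_u' (x : V) : dotInt x vecU' = 4 * (x none - x (some 0)) := by
  have : vecU' = Pi.single none 4 + Pi.single (some 0) (-4) := by decide +kernel
  rw [this, dot_add_right, dot_single_right, dot_single_right]; ring

theorem dot_v (x : V) : dotInt x vecV = -(∑ p, x p + 4 * x none) := by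
  have : vecV = (fun _ => -1) + Pi.single none (-4) := by decide +kernel
  rw [this, dot_add_right, dot_single_right]
  simp only [dotInt, mul_neg, mul_one, Finset.sum_neg_distrib]; ring

theorem norm_u : sqNorm vecU = 32 := by decide +kernel
theorem norm_u' : sqNorm vecU' = 32 := by decide +kernel
theorem dot_uu : dotInt vecU' vecU = 0 := by decide +kernel
theorem dot_u'u : dotInt vecU vecU' = 0 := by decide +kernel
theorem dot_uv : dotInt vecU vecV = -24 := by decide +kernel
theorem dot_u'v : dotInt vecU' vecV = -16 := by decide +kernel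

theorem dot_fix {g : Perm Λ} (hg : g ∈ Co0) (x : Λ) {y : Λ} (h : g y = y) :
    dotInt (g x : V) (y : V) = dotInt (x : V) (y : V) := by rw [← co0_dot hg x y, h]

theorem bd_Co2 : Bd Co2 42305421312000 :=
  bd_orbit (K := Co2) (n := 93150) (m := 454164480) leechU' (bd_min cnt_2) (fun g hg => ⟨(co0_norm hg.1 _).trans norm_u', by
    have := (dot_u _).symm.trans ((dot_fix hg.1 leechU' hg.2).trans dot_uu)
    exact decide_eq_true (by change (g leechU' : V) none + (g leechU' : V) (some 0) = 0; omega)⟩) bd_N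

theorem bd_Co0 : Bd Co0 8315553613086720000 :=
  bd_orbit (K := Co0) (n := 196560) (m := 42305421312000) leechU (bd_min cnt_all) (fun _ hg => ⟨(co0_norm hg _).trans norm_u, rfl⟩) bd_Co2

theorem bd_McL : Bd McL 898128000 :=
  bd_orbit (K := McL) (n := 2025) (m := 443520) leechU' (bd_min cnt_M) (fun g hg => ⟨(co0_norm hg.1.1 _).trans norm_u', by
    have h1 := (dot_u _).symm.trans ((dot_fix hg.1.1 leechU' hg.2).trans dot_uu)
    have h2 := (dot_v _).symm.trans ((dot_fix hg.1.1 leechU' hg.1.2).trans dot_u'v)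
    exact Bool.and_eq_true_iff.2 ⟨decide_eq_true (by
      change (g leechU' : V) none + (g leechU' : V) (some 0) = 0; omega), decide_eq_true (by
      change ∑ p, (g leechU' : V) p + 4 * (g leechU' : V) none = 16; omega)⟩⟩) bd_M

theorem bd_HS : Bd HS 44352000 :=
  bd_orbit (K := HS) (n := 100) (m := 443520) leechU (bd_min cnt_H) (fun g hg => ⟨(co0_norm hg.1.1 _).trans norm_u, by
    have h1 := (dot_u' _).symm.trans ((dot_fix hg.1.1 leechU hg.2).trans dot_u'u)
    have h2 := (dot_v _).symm.trans ((dot_fix hg.1.1 leechU hg.1.2).trans dot_uv)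
    exact Bool.and_eq_true_iff.2 ⟨decide_eq_true (by
      change (g leechU : V) none = (g leechU : V) (some 0); omega), decide_eq_true (by
      change ∑ p, (g leechU : V) p + 4 * (g leechU : V) none = 24; omega)⟩⟩)
    (bd_M.mono (K := HS ⊓ stabilizer (Perm Λ) leechU) fun g hg => ⟨⟨hg.1.1, hg.2⟩, hg.1.2⟩)

theorem bd_Co3 : Bd Co3 495766656000 :=
  bd_orbit (K := Co3) (n := 552) (m := 898128000) leechU (bd_min cnt_3) (fun g hg => ⟨(co0_norm hg.1 _).trans norm_u, by
    have h2 := (dot_v _).symm.trans ((dot_fix hg.1 leechU hg.2).trans dot_uv)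
    exact decide_eq_true (by
      change ∑ p, (g leechU : V) p + 4 * (g leechU : V) none = 24; omega)⟩) bd_McL

instance finiteCo0 : Finite Co0 := bd_Co0.1

/-! ### The centre -/

/-- The element `-1`. -/
def neg1 : Co0 := ⟨Equiv.neg Λ, fun x y => neg_add x y, fun x => by simp [sqNorm]⟩

theorem neg1_apply (x : Λ) : neg1.1 x = -x := rfl

theorem neg1_ne : neg1 ≠ 1 := fun h => by
  have : (neg1.1 (e8 none) : V) none = (e8 none : V) none := by rw [h]; rfl
  rw [neg1_apply] at this
  simp [coe_e8] at this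

theorem neg1_mem : neg1 ∈ Subgroup.center Co0 :=
  Subgroup.mem_center_iff.2 fun g => Subtype.ext (Equiv.ext fun x => co0_neg g.2 x)

theorem bas_sep : ∀ p q : GolayPt, p ≠ q →
    ∃ j < 12, (nth 0 bas j).testBit (ix p) ≠ (nth 0 bas j).testBit (ix q) := by decide +kernel

theorem M24_trans (p : GolayPt) : ∃ σ ∈ M24, σ none = p := by
  have h1 : m24_l0.Sound (φK M24) ⊤ 5 [] := m24_cert.sound.1
  have h2 : ∀ p : GolayPt, m24_l0.O.testBit (ix p) = true := by decide +kernel
  obtain ⟨x, -, hx⟩ := h1.2.1 _ (h2 p)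
  exact ⟨x.1, x.2, ix_inj ((φK_ix x none).symm.trans hx)⟩

theorem mem_center {z : Co0} (hz : z ∈ Subgroup.center Co0) : z = 1 ∨ z = neg1 := by
  have hc : ∀ g ∈ Co0, ∀ x, g (z.1 x) = z.1 (g x) := fun g hg x =>
    congrArg (fun t : Co0 => t.1 x) (Subgroup.mem_center_iff.1 hz ⟨g, hg⟩)
  have k1 : ∀ p q, q ≠ p → (z.1 (e8 p) : V) q = 0 := by
    intro p q hq
    obtain ⟨j, hj, h⟩ := bas_sep q p hq
    obtain ⟨g, hg, e⟩ := exists_sign (S := fs (nth 0 bas j)) (support_wd _ ▸ isC_support.2 (bas_mem hj))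
    have h1 : g (e8 p) = sg (fs (nth 0 bas j)) p • e8 p := by
      ext r
      rw [e, AddSubgroupClass.coe_zsmul, Pi.smul_apply, coe_e8, Pi.single_apply]
      split_ifs with h2
      · rw [h2]; rfl
      · simp
    have h2 := congrArg (fun t : Λ => (t : V) q) (hc g hg (e8 p))
    simp only [h1, co0_zsmul z.2, e, AddSubgroupClass.coe_zsmul, Pi.smul_apply, smul_eq_mul,
      sg_fs] at h2
    revert h h2
    cases (nth 0 bas j).testBit (ix q) <;> cases (nth 0 bas j).testBit (ix p) <;>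
      simp only [sb, cond] <;> intro h h2 <;> first | omega | exact absurd rfl h
  have k2 : ∀ p, (z.1 (e8 p) : V) = Pi.single p ((z.1 (e8 none) : V) none) := by
    intro p
    obtain ⟨σ, hσ, rfl⟩ := M24_trans p
    obtain ⟨g, hg, e⟩ := exists_perm hσ
    have h1 : g (e8 none) = e8 (σ none) := by
      ext r
      rw [e, coe_e8, coe_e8, Pi.single_apply, Pi.single_apply]
      simp only [Perm.inv_eq_iff_eq]
    funext q
    rw [Pi.single_apply]
    split_ifs with h
    · rw [h, ← h1, ← hc g hg, e, perm_inv_apply]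
    · exact k1 _ _ h
  have k3 := co0_dot z.2 (e8 none) (e8 none)
  have k4 : ∀ (x : Λ) p, (z.1 x : V) p * (z.1 (e8 none) : V) none = (x : V) p * 8 := fun x p => by
    rw [← dot_single_right, ← k2, co0_dot z.2, coe_e8, dot_single_right]
  have k5 := k4 (e8 none) none
  rw [coe_e8, Pi.single_eq_same] at k5
  rcases mul_self_eq_mul_self_iff.1 k5 with h | h
  · left
    ext x p
    have := k4 x p
    rw [h] at this
    show (z.1 x : V) p = (x : V) p
    omega
  · right
    ext x p
    have := k4 x p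
    rw [h] at this
    show (z.1 x : V) p = -(x : V) p
    omega

theorem card_center : Nat.card (Subgroup.center Co0) = 2 := by
  rw [Nat.card_eq_two_iff' (1 : Subgroup.center Co0)]
  refine ⟨⟨neg1, neg1_mem⟩, fun h => neg1_ne (congrArg Subtype.val h), fun z hz => ?_⟩
  rcases mem_center z.2 with h | h
  · exact absurd (Subtype.ext h) hz
  · exact Subtype.ext h

theorem bd_Co1 : Finite Co1 ∧ Nat.card Co1 ≤ 4157776806543360000 := by
  refine ⟨inferInstance, ?_⟩
  have h1 := Subgroup.card_eq_card_quotient_mul_card_subgroup (Subgroup.center Co0)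
  have h2 := bd_Co0.2
  rw [card_center] at h1
  change Nat.card Co0 = Nat.card Co1 * 2 at h1
  omega

/-- A permutation mapping the dodecad to its complement. -/
def swapNet : Net := Net.cons 16 0xa268 <| Net.cons 8 0x4200c0 <| Net.cons 4 0x4080c08 <|
  Net.cons 2 0x2000220 <| Net.cons 1 0x4150141 <| Net.cons 2 0x22011201 <| Net.cons 4 0x6010c0d <|
  Net.cons 8 0x400088 <| Net.cons 16 0xa27a <| Net.nil

theorem neg1_mem_commutator : neg1 ∈ commutator Co0 := by
  obtain ⟨σ, hσ, e⟩ := netsOK_sound (Ms := []) (ns := [swapNet]) (by decide +kernel) 0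
  have h1 := inv_smul_fs (B := 32) (ns := [swapNet]) (by decide +kernel) (a := 0)
    (e.trans (ext_two_mul _ 0).symm) 681662
  have h2 : fs (gat [swapNet] 0 681662) = (fs 681662)ᶜ := by decide +kernel
  obtain ⟨g, hg, e1⟩ := exists_sign (S := fs 681662) (isC_fs (by decide +kernel))
  obtain ⟨t, ht, e2⟩ := exists_perm hσ.1
  have : neg1 = ⁅(⟨g, hg⟩ : Co0), (⟨t, ht⟩ : Co0)⁆ := by
    rw [commutatorElement_def, eq_mul_inv_iff_mul_eq, eq_mul_inv_iff_mul_eq]
    ext x p
    show -(t (g x) : V) p = (g (t x) : V) p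
    rw [e1, e2, e2, e1]
    have h3 : σ⁻¹ p ∈ fs 681662 ↔ p ∉ fs 681662 := by
      have h4 : σ⁻¹ p ∈ σ⁻¹ • fs 681662 ↔ p ∈ fs 681662 := by rw [mem_inv_smul, perm_apply_inv]
      rw [h1, h2, Finset.mem_compl] at h4
      rw [← h4, not_not]
    simp only [sg, h3]
    split_ifs <;> simp
  rw [this]
  exact Subgroup.commutator_mem_commutator (Subgroup.mem_top _) (Subgroup.mem_top _)

theorem center_le_commutator : Subgroup.center Co0 ≤ commutator Co0 := fun z hz => by
  rcases mem_center hz with h | h <;> rw [h]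
  · exact one_mem _
  · exact neg1_mem_commutator

end Cfsg.Agent.Leech
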