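import Cfsg.Agent.Leech.Basic

set_option autoImplicit false
set_option linter.style.haveILetI false
set_option maxRecDepth 100000

/-! The minimal vectors of the Leech lattice: shapes and numbers. -/

namespace Cfsg.Agent.Leech

open Cfsg Cfsg.Spor Cfsg.Agent.Gol Cfsg.Agent.CGT Equiv
open scoped Pointwise symmDiff

theorem all_zero_of_sum_lt {f : GolayPt → ℤ} {t : ℤ} (h : ∀ p, f p = 0 ∨ t ≤ f p) (ht : 0 ≤ t)
    (hs : ∑ p, f p < t) (p : GolayPt) : f p = 0 := by
  rcases h p with h1 | h1
  · exact h1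
  · have := Finset.single_le_sum (f := f) (fun q _ => by rcases h q with h | h <;> omega)
      (Finset.mem_univ p)
    omega

/-- The vectors of shape `(∓3, ±1, …)`. -/
def vC (S : Finset GolayPt) (i : GolayPt) : V := fun p => sg S p * if p = i then -3 else 1

theorem shape {x : V} (hx : x ∈ leechLattice) (hn : sqNorm x = 32) :
    (∃ i j, i ≠ j ∧ ∃ a b, (a = 4 ∨ a = -4) ∧ (b = 4 ∨ b = -4) ∧
      x = Pi.single i a + Pi.single j b) ∨
    ((hi x).card = 8 ∧ ∀ p, if p ∈ hi x then x p = 2 ∨ x p = -2 else x p = 0) ∨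
    ∃ i, x = vC (hi x) i := by
  obtain ⟨⟨m, h1, h2⟩, h3⟩ := mem_leech.1 hx
  have hm := h1 none
  unfold sqNorm at hn
  by_cases h : m = 0
  · have k1 : ∀ p, x p ^ 2 - ind (hi x) 4 p = 0 ∨ 16 ≤ x p ^ 2 - ind (hi x) 4 p := by
      intro p
      have h4 := h1 p
      simp only [ind, mem_hi]
      split_ifs with h5
      · have : x p = 2 ∨ x p = -2 ∨ 6 ≤ x p ∨ x p ≤ -6 := by omega
        rcases this with h | h | h | h
        · simp [h]
        · simp [h]
        · right; nlinarith
        · right; nlinarith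
      · have : x p = 0 ∨ 4 ≤ x p ∨ x p ≤ -4 := by omega
        rcases this with h | h | h
        · simp [h]
        · right; nlinarith
        · right; nlinarith
    have k2 : 0 ≤ ∑ p, (x p ^ 2 - ind (hi x) 4 p) :=
      Finset.sum_nonneg fun p _ => by rcases k1 p with h | h <;> omega
    have k3 : ∑ p, (x p ^ 2 - ind (hi x) 4 p) = 32 - (hi x).card * 4 := by
      rw [Finset.sum_sub_distrib, sum_ind, hn]
    have k4 := h3.card_mem
    by_cases h8 : (hi x).card = 8
    · refine Or.inr (Or.inl ⟨h8, fun p => ?_⟩)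
      have := all_zero_of_sum_lt k1 (by norm_num) (by rw [k3, h8]; norm_num) p
      unfold ind at this
      split_ifs at this ⊢
      · exact sq_eq_sq_iff_eq_or_eq_neg.1 (by omega)
      · exact pow_eq_zero_iff two_ne_zero |>.1 (by omega)
    · left
      have h0 : hi x = ∅ := Finset.card_eq_zero.1 (by omega)
      have h4 : ∀ p, x p % 4 = 0 := by
        intro p
        have h5 := h1 p
        have : p ∉ hi x := by simp [h0]
        rw [mem_hi] at this
        omega
      let Z : Finset GolayPt := Finset.univ.filter fun p => x p ≠ 0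
      have l1 : ∀ p, x p ^ 2 - ind Z 16 p = 0 ∨ 48 ≤ x p ^ 2 - ind Z 16 p := by
        intro p
        have h5 := h4 p
        simp only [ind, Z, Finset.mem_filter, Finset.mem_univ, true_and]
        split_ifs with h5
        · have : x p = 4 ∨ x p = -4 ∨ 8 ≤ x p ∨ x p ≤ -8 := by omega
          rcases this with h | h | h | h
          · simp [h]
          · simp [h]
          · right; nlinarith
          · right; nlinarith
        · simp [not_not.1 h5]
      have l2 : ∑ p, (x p ^ 2 - ind Z 16 p) = 32 - Z.card * 16 := by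
        rw [Finset.sum_sub_distrib, sum_ind, hn]
      have l3 := all_zero_of_sum_lt l1 (by norm_num) (by rw [l2]; omega)
      rw [Finset.sum_eq_zero fun p _ => l3 p] at l2
      obtain ⟨i, j, hij, hZ⟩ := Finset.card_eq_two.1 (show Z.card = 2 by omega)
      have l4 : ∀ p ∈ Z, x p = 4 ∨ x p = -4 := fun p hp => by
        have := l3 p
        rw [ind, if_pos hp] at this
        exact sq_eq_sq_iff_eq_or_eq_neg.1 (by omega)
      refine ⟨i, j, hij, x i, x j, l4 i (by simp [hZ]), l4 j (by simp [hZ]), funext fun p => ?_⟩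
      by_cases hi' : p = i
      · subst hi'; simp [hij]
      by_cases hj' : p = j
      · subst hj'; simp [hi']
      · have : p ∉ Z := by simp [hZ, hi', hj']
        simpa [Z, hi', hj'] using this
  · right; right
    let Z : Finset GolayPt := Finset.univ.filter fun p => x p ^ 2 ≠ 1
    have l1 : ∀ p, x p ^ 2 - 1 - ind Z 8 p = 0 ∨ 16 ≤ x p ^ 2 - 1 - ind Z 8 p := by
      intro p
      have h5 := h1 p
      simp only [ind, Z, Finset.mem_filter, Finset.mem_univ, true_and]
      split_ifs with h5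
      · have : x p = 1 ∨ x p = -1 ∨ x p = 3 ∨ x p = -3 ∨ 5 ≤ x p ∨ x p ≤ -5 := by omega
        rcases this with h | h | h | h | h | h
        · simp [h] at h5
        · simp [h] at h5
        · simp [h]
        · simp [h]
        · right; nlinarith
        · right; nlinarith
      · simp [not_not.1 h5]
    have l2 : ∑ p, (x p ^ 2 - 1 - ind Z 8 p) = 8 - (Z.card : ℤ) * 8 := by
      rw [Finset.sum_sub_distrib, Finset.sum_sub_distrib, sum_ind, hn]; simp
    have l3 := all_zero_of_sum_lt l1 (by norm_num) (by rw [l2]; omega)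
    rw [Finset.sum_eq_zero fun p _ => l3 p] at l2
    obtain ⟨i, hZ⟩ := Finset.card_eq_one.1 (show Z.card = 1 by omega)
    refine ⟨i, funext fun p => ?_⟩
    have l4 := l3 p
    simp only [ind, hZ, Finset.mem_singleton] at l4
    simp only [vC, sg, mem_hi]
    by_cases hp : p = i
    · rw [if_pos hp] at l4 ⊢
      have : x p = 3 ∨ x p = -3 := sq_eq_sq_iff_eq_or_eq_neg.1 (by omega)
      split_ifs <;> omega
    · rw [if_neg hp] at l4 ⊢
      have : x p = 1 ∨ x p = -1 := sq_eq_sq_iff_eq_or_eq_neg.1 (by omega)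
      split_ifs <;> omega

/-! ### Sums for the kernel -/

/-- `∑ i < n, f i`. -/
noncomputable def sumLt (n : ℕ) (f : ℕ → ℕ) : ℕ := Nat.rec 0 (fun i ih => frc ih (Nat.add (f i) ih)) n

/-- The sum over a list. -/
noncomputable def sumL {α : Type} (l : List α) (f : α → ℕ) : ℕ :=
  List.rec 0 (fun a _ ih => frc ih (Nat.add (f a) ih)) l

theorem bdS_sumLt {α : Type*} {n : ℕ} {f : ℕ → ℕ} {Y : ℕ → α → Prop}
    (h : ∀ i < n, BdS {x | Y i x} (f i)) : BdS {x | ∃ i < n, Y i x} (sumLt n f) := by
  induction n with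
  | zero => exact BdS.empty.mono (by simp)
  | succ n ih =>
    have e : sumLt (n + 1) f = f n + sumLt n f := frc_eq (sumLt n f) _
    rw [e]
    refine ((h n (by omega)).union (ih fun i hi => h i (by omega))).mono ?_
    rintro x ⟨i, hi, hx⟩
    rcases Nat.lt_succ_iff_lt_or_eq.1 hi with h1 | rfl
    · exact Or.inr ⟨i, h1, hx⟩
    · exact Or.inl hx

theorem bdS_sumL {α : Type*} {β : Type} {l : List β} {f : β → ℕ} {Y : β → α → Prop}
    (h : ∀ i ∈ l, BdS {x | Y i x} (f i)) : BdS {x | ∃ i ∈ l, Y i x} (sumL l f) := by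
  induction l with
  | nil => exact BdS.empty.mono (by simp)
  | cons a l ih =>
    have e : sumL (a :: l) f = f a + sumL l f := frc_eq (sumL l f) _
    rw [e]
    refine ((h a (by simp)).union (ih fun i hi => h i (by simp [hi]))).mono ?_
    rintro x ⟨i, hi, hx⟩
    rcases List.mem_cons.1 hi with rfl | h1
    · exact Or.inl hx
    · exact Or.inr ⟨i, h1, hx⟩

theorem bdS_cond {α : Type*} {n : ℕ} {Y : α → Prop} (b : Bool) (h : BdS {x | Y x} n) :
    BdS {x | b = true ∧ Y x} (Bool.rec 0 n b) := by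
  cases b
  · exact BdS.empty.mono (by simp)
  · exact h.mono fun x hx => hx.2

theorem bdS_image {α β : Type*} {n : ℕ} {Y : Set α} (h : BdS Y n) (f : α → β) : BdS (f '' Y) n :=
  ⟨h.1.image f, (Set.ncard_image_le h.1).trans h.2⟩

theorem bdS_eq {α : Type*} (a : α) : BdS {x | x = a} 1 := BdS.singleton a

/-! ### Counting -/

/-- The minimal vectors with a condition on two coordinates and the sum. -/
def MinV (P : ℤ → ℤ → ℤ → Bool) : Set V :=
  {x | x ∈ leechLattice ∧ sqNorm x = 32 ∧ P (x none) (x (some 0)) (∑ p, x p) = true}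

/-- Shape `(±4, ±4, 0, …)`. -/
noncomputable def cntA (P : ℤ → ℤ → ℤ → Bool) : ℕ :=
  sumLt 24 fun i => sumLt i fun j => sumL [4, -4] fun a : ℤ => sumL [4, -4] fun b : ℤ =>
    Bool.rec 0 1 (P (if j = 0 then b else 0) (if i = 1 then a else if j = 1 then b else 0) (a + b))

/-- The options for a coordinate. -/
def opt (b : Bool) : List ℤ := cond b [2, -2] [0]

/-- Shape `(±2^8, 0^16)` on an octad with given incidences. -/
noncomputable def gB (P : ℤ → ℤ → ℤ → Bool) (α β : Bool) : ℕ :=
  (fun n : ℕ => sumL (opt α) fun a => sumL (opt β) fun b => sumLt 9 fun k =>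
    Bool.rec 0 (Nat.choose n k) (P a b (a + b + 2 * n - 4 * k) &&
      decide ((a + b + 2 * n - 4 * k) % 8 = 0))) (8 - α.toNat - β.toNat)

/-- Shape `(±2^8, 0^16)`. -/
noncomputable def cntB (P : ℤ → ℤ → ℤ → Bool) : ℕ :=
  sumL octL fun O => Bool.rec (Bool.rec (gB P false false) (gB P false true) (Nat.testBit O 1))
    (Bool.rec (gB P true false) (gB P true true) (Nat.testBit O 1)) (Nat.testBit O 0)

/-- A sign. -/
def sb (b : Bool) : ℤ := cond b (-1) 1

/-- Shape `(∓3, ±1^23)` for a code word. -/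
noncomputable def gC (P : ℤ → ℤ → ℤ → Bool) (m : ℕ) : ℕ :=
  (fun s0 s1 t : ℤ =>
    Nat.add (Nat.add (Bool.rec 0 1 (P (s0 * -3) s1 (t - 4 * s0))) (Bool.rec 0 1 (P s0 (s1 * -3) (t - 4 * s1))))
      (Nat.add (Bool.rec 0 (popc 2 (Nat.land m 16777212)) (P s0 s1 (t + 4)))
        (Bool.rec 0 (popc 2 (Nat.land (Nat.xor m 16777215) 16777212)) (P s0 s1 (t - 4)))))
    (sb (m.testBit 0)) (sb (m.testBit 1)) (24 - 2 * (popc 2 m : ℤ))

/-- Shape `(∓3, ±1^23)`. -/
noncomputable def cntC (P : ℤ → ℤ → ℤ → Bool) : ℕ := sumLt 4096 fun c => gC P (cw c)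

theorem sum_sg (S : Finset GolayPt) : ∑ p, sg S p = 24 - 2 * S.card := by
  have : ∀ p, sg S p = 1 - ind S 2 p := fun p => by unfold sg ind; split_ifs <;> rfl
  simp only [this, Finset.sum_sub_distrib, sum_ind]
  simp [mul_comm]

theorem sum_vC (S : Finset GolayPt) (i : GolayPt) : ∑ p, vC S i p = 24 - 2 * S.card - 4 * sg S i := by
  have : ∀ p, vC S i p = sg S p - (Pi.single i (4 * sg S i) : V) p := fun p => by
    simp only [vC, Pi.single_apply]
    split_ifs with h
    · rw [h]; ring
    · ring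
  simp only [this, Finset.sum_sub_distrib, sum_sg, Finset.sum_pi_single', Finset.mem_univ, if_true]

theorem sg_fs (m : ℕ) (p : GolayPt) : sg (fs m) p = sb (m.testBit (ix p)) := by
  rw [sg]; simp only [mem_fs]; cases m.testBit (ix p) <;> rfl

theorem mem_fs_rest {p : GolayPt} : p ∈ fs 16777212 ↔ p ≠ none ∧ p ≠ some 0 := by
  revert p; decide +kernel

theorem bd_C (P : ℤ → ℤ → ℤ → Bool) {m : ℕ} (hm : m < 2 ^ 24) :
    BdS {x : V | (∃ i, x = vC (fs m) i) ∧ P (x none) (x (some 0)) (∑ p, x p) = true} (gC P m) := by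
  have h1 : m &&& 16777212 < 2 ^ 24 := lt_of_le_of_lt Nat.and_le_left hm
  have h2 : (m ^^^ 16777215) &&& 16777212 < 2 ^ 24 := lt_of_le_of_lt Nat.and_le_right (by norm_num)
  have k := fun T : Finset GolayPt => bdS_image (BdS.finset T) (vC (fs m))
  unfold gC
  simp only [land_eq, xor_eq]
  rw [← card_fs h1, ← card_fs h2, ← card_fs hm]
  refine (((bdS_cond _ (bdS_eq (vC (fs m) none))).union
    (bdS_cond _ (bdS_eq (vC (fs m) (some 0))))).union
    ((bdS_cond _ (k _)).union (bdS_cond _ (k _)))).mono ?_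
  rintro _ ⟨⟨i, rfl⟩, hP⟩
  rw [sum_vC] at hP
  have e0 : sg (fs m) none = sb (m.testBit 0) := sg_fs m none
  have e1 : sg (fs m) (some 0) = sb (m.testBit 1) := sg_fs m (some 0)
  by_cases h0 : i = none
  · subst h0
    refine Or.inl (Or.inl ⟨?_, rfl⟩)
    simpa [vC, e0, e1] using hP
  by_cases h0' : i = some 0
  · subst h0'
    refine Or.inl (Or.inr ⟨?_, rfl⟩)
    simpa [vC, e0, e1] using hP
  simp only [vC, e0, e1, Ne.symm h0, Ne.symm h0', if_false, mul_one] at hP
  by_cases hi : i ∈ fs m
  · refine Or.inr (Or.inl ⟨?_, i, ?_, rfl⟩)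
    · rw [sg, if_pos hi] at hP
      simpa using hP
    · rw [fs_land]; exact Finset.mem_inter.2 ⟨hi, mem_fs_rest.2 ⟨h0, h0'⟩⟩
  · refine Or.inr (Or.inr ⟨?_, i, ?_, rfl⟩)
    · rw [sg, if_neg hi] at hP
      simpa using hP
    · rw [fs_land, fs_xor, fs_all]
      exact Finset.mem_inter.2 ⟨by simp [Finset.mem_symmDiff, -mem_fs, hi], mem_fs_rest.2 ⟨h0, h0'⟩⟩

theorem bd_B (P : ℤ → ℤ → ℤ → Bool) {S : Finset GolayPt} (hS : S.card = 8) :
    BdS {x : V | (∀ p, if p ∈ S then x p = 2 ∨ x p = -2 else x p = 0) ∧ (∑ p, x p) % 8 = 0 ∧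
      P (x none) (x (some 0)) (∑ p, x p) = true}
      (gB P (decide (none ∈ S)) (decide (some 0 ∈ S))) := by
  set R : Finset GolayPt := S \ {none, some 0} with hR
  have hc : R.card = 8 - (decide (none ∈ S)).toNat - (decide (some 0 ∈ S)).toNat := by
    rw [hR, Finset.card_sdiff, hS]
    by_cases h1 : none ∈ S <;> by_cases h2 : some 0 ∈ S <;> simp [h1, h2, Finset.insert_inter_of_mem,
      Finset.insert_inter_of_notMem]
  unfold gB
  simp only [← hc]
  let T : V → Finset GolayPt := fun x => R.filter fun p => x p = -2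
  refine (bdS_sumL fun a _ => bdS_sumL fun b _ => bdS_sumLt fun k _ => bdS_cond
    (Y := fun x : V => (∀ p, if p ∈ S then x p = 2 ∨ x p = -2 else x p = 0) ∧ x none = a ∧
      x (some 0) = b ∧ (T x).card = k) _ ?_).mono ?_
  · rw [← Finset.card_powersetCard]
    refine (BdS.finset _).of_injOn T (fun x hx => ?_) fun x hx y hy e => funext fun p => ?_
    · exact Finset.mem_coe.2 (Finset.mem_powersetCard.2 ⟨Finset.filter_subset _ _, hx.2.2.2⟩)
    · by_cases h1 : p = none
      · rw [h1, hx.2.1, hy.2.1]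
      by_cases h2 : p = some 0
      · rw [h2, hx.2.2.1, hy.2.2.1]
      have h3 := hx.1 p
      have h4 := hy.1 p
      have h5 : p ∈ T x ↔ p ∈ T y := by rw [e]
      simp only [T, hR, Finset.mem_filter, Finset.mem_sdiff, Finset.mem_insert, h1, h2,
        Finset.mem_singleton, or_self, not_false_iff, and_true] at h5
      split_ifs at h3 h4 with h6
      · simp only [h6, true_and] at h5
        omega
      · omega
  · rintro x ⟨h1, h2, h3⟩
    have k1 : ∀ p, x p ∈ opt (decide (p ∈ S)) := fun p => by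
      have := h1 p
      split_ifs at this with h <;> simpa [opt, h] using this
    have k2 : ∑ p, x p = x none + x (some 0) + 2 * R.card - 4 * (T x).card := by
      have : ∀ p, x p = (Pi.single none (x none) : V) p + (Pi.single (some 0) (x (some 0)) : V) p +
          ind R 2 p - ind (T x) 4 p := fun p => by
        by_cases h4 : p = none
        · subst h4; simp [ind, T, hR]
        by_cases h5 : p = some 0
        · subst h5; simp [ind, T, hR]
        have := h1 p
        simp only [ind, T, hR, Finset.mem_filter, Finset.mem_sdiff, Finset.mem_insert, h4, h5,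
          Finset.mem_singleton, or_self, not_false_iff, and_true, Pi.single_apply, if_false]
        split_ifs at this ⊢ with h6 h7 h7 <;> simp only [h6, true_and, false_and] at h7 <;> omega
      rw [Finset.sum_congr rfl fun p _ => this p]
      simp only [Finset.sum_sub_distrib, Finset.sum_add_distrib, sum_ind, Finset.sum_pi_single',
        Finset.mem_univ, if_true]
      ring
    refine ⟨_, k1 none, _, k1 (some 0), (T x).card, ?_, ?_, h1, rfl, rfl, rfl⟩
    · have := Finset.card_le_card (Finset.filter_subset (fun p => x p = -2) R)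
      change (T x).card ≤ _ at this
      omega
    · rw [← k2, h3, h2]; rfl

theorem bd_minV (P : ℤ → ℤ → ℤ → Bool) : BdS (MinV P) (cntA P + cntB P + cntC P) := by
  have hA := bdS_sumLt (n := 24) fun i _ => bdS_sumLt (n := i) fun j _ =>
    bdS_sumL (l := [4, -4]) fun (a : ℤ) _ => bdS_sumL (l := [4, -4]) fun (b : ℤ) _ => bdS_cond
    (P (if j = 0 then b else 0) (if i = 1 then a else if j = 1 then b else 0) (a + b))
    (bdS_eq (Pi.single (pt i) a + Pi.single (pt j) b : V))
  have hB : BdS {x : V | ∃ O ∈ octL, (∀ p, if p ∈ fs O then x p = 2 ∨ x p = -2 else x p = 0) ∧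
      (∑ p, x p) % 8 = 0 ∧ P (x none) (x (some 0)) (∑ p, x p) = true} (cntB P) :=
    bdS_sumL fun O hO => by
      have h1 := allL_iff.1 octL_ok O hO
      rw [Bool.and_eq_true, Nat.beq_eq] at h1
      have := bd_B P (S := fs O) (by rw [card_fs (inC_lt h1.1), h1.2])
      simp only [mem_fs, ix_none, ix_zero, Bool.decide_eq_true] at this ⊢
      revert this
      cases O.testBit 0 <;> cases O.testBit 1 <;> exact id
  have hC := bdS_sumLt (n := 4096) fun c hc => bd_C P (cw_spec hc).1
  refine ((hA.union hB).union hC).mono ?_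
  rintro x ⟨h1, h2, h3⟩
  have hL := mem_leech.1 h1
  rcases shape h1 h2 with ⟨i, j, hij, a, b, ha, hb, rfl⟩ | h | ⟨i, h⟩
  · refine Or.inl (Or.inl ?_)
    wlog hlt : ix j < ix i generalizing i j a b
    · rw [add_comm] at h1 h2 h3 hL ⊢
      exact this j i hij.symm b a hb ha h1 h2 h3 hL
        (lt_of_le_of_ne (not_lt.1 hlt) fun e => hij (ix_inj e))
    refine ⟨ix i, ix_lt i, ix j, hlt, a, by simpa using ha, b, by simpa using hb, ?_,
      by rw [pt_ix, pt_ix]⟩
    have e1 : ∀ p : GolayPt, ix p = 0 ↔ none = p := by decide +kernel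
    have e2 : ∀ p : GolayPt, ix p = 1 ↔ some 0 = p := by decide +kernel
    have e3 : ¬ none = i := by rw [← e1]; omega
    simp only [Pi.add_apply, Finset.sum_add_distrib, Finset.sum_pi_single', Finset.mem_univ,
      if_true] at h3
    simp only [Pi.single_apply, e3, if_false, zero_add] at h3
    simp only [e1, e2]
    rw [← h3]
    congr 1
    split_ifs with h4 h5
    · exact absurd (h4.symm.trans h5) hij
    all_goals simp
  · refine Or.inl (Or.inr ⟨mk (hi x), hL.2.mem_octL h.1, by rw [fs_mk]; exact h.2, ?_, h3⟩)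
    obtain ⟨m, h4, h5⟩ := hL.1
    have h6 := h4 none
    have h7 := h.2 none
    split_ifs at h7 <;> omega
  · obtain ⟨c, hc, e⟩ := hL.2.exists_cw
    exact Or.inr ⟨c, hc, ⟨i, by rw [← e]; exact h⟩, h3⟩

theorem bd_min {P : ℤ → ℤ → ℤ → Bool} {n : ℕ}
    (h : Nat.beq (Nat.add (Nat.add (cntA P) (cntB P)) (cntC P)) n = true) :
    BdS {x : Λ | sqNorm (x : V) = 32 ∧
      P ((x : V) none) ((x : V) (some 0)) (∑ p, (x : V) p) = true} n :=
  ((bd_minV P).le (Nat.eq_of_beq_eq_true h).le).of_injOn Subtype.val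
    (fun x hx => ⟨x.2, hx⟩) Subtype.val_injective.injOn

theorem cnt_all : Nat.beq (Nat.add (Nat.add (cntA fun _ _ _ => true) (cntB fun _ _ _ => true))
    (cntC fun _ _ _ => true)) 196560 = true := by decide +kernel

/-- Orthogonal to `u`. -/
def P2 (a b _s : ℤ) : Bool := decide (a + b = 0)
/-- Inner product `-24` with `v`. -/
def P3 (a _b s : ℤ) : Bool := decide (s + 4 * a = 24)
/-- Orthogonal to `u`, inner product `-16` with `v`. -/
def PM (a b s : ℤ) : Bool := decide (a + b = 0) && decide (s + 4 * a = 16)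
/-- Orthogonal to `u'`, inner product `-24` with `v`. -/
def PH (a b s : ℤ) : Bool := decide (a = b) && decide (s + 4 * a = 24)

theorem cnt_2 : Nat.beq (Nat.add (Nat.add (cntA P2) (cntB P2)) (cntC P2)) 93150 = true := by
  decide +kernel
theorem cnt_3 : Nat.beq (Nat.add (Nat.add (cntA P3) (cntB P3)) (cntC P3)) 552 = true := by
  decide +kernel
theorem cnt_M : Nat.beq (Nat.add (Nat.add (cntA PM) (cntB PM)) (cntC PM)) 2025 = true := by
  decide +kernel
theorem cnt_H : Nat.beq (Nat.add (Nat.add (cntA PH) (cntB PH)) (cntC PH)) 100 = true := by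
  decide +kernel

end Cfsg.Agent.Leech
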