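import Cfsg.Agent.Leech.Bound
import Cfsg.Agent.Gol.Conj

set_option autoImplicit false
set_option linter.style.haveILetI false
set_option maxRecDepth 100000

/-! Explicit elements of `Co0` and permutation models on classes modulo two. -/

namespace Cfsg.Agent.Leech

open Cfsg Cfsg.Spor Cfsg.Agent.Gol Cfsg.Agent.CGT Equiv MulAction

universe u

/-- A certificate from a relation compatible with products; generation follows from the bound. -/
theorem cert_of_rel {G : Type u} [Group G] {γ : ℕ → G} {L : List ℕ} {k N : ℕ} {ns : List Net}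
    {ts : List Tab} {ls : List Level} (r : G → ℕ → ℕ → Prop) (h1 : ∀ i < N, r 1 i i)
    (hmul : ∀ x y i j l, i < N → j < N → l < N → r y i j → r x j l → r (x * y) i l)
    (hinv : ∀ x i j, i < N → j < N → r x i j → r x⁻¹ j i)
    (huniq : ∀ i j, i < N → j < N → r 1 i j → i = j) (hv : validAll (2 ^ k) ns = true)
    (hfix : fixAbove k N ns = true) (hact : ∀ j, ∀ i < N, r (γ j) i (netPerm ns j i))
    (hL : ∀ j, γ j ∈ gp γ L) (ht : TabsOK k (CGT.lp ns) ts)
    (hs : ∀ (H : Type u) [Group H] (φ : H →* Perm ℕ) (γ : ℕ → H), Model φ γ k ns ts →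
      ChainSound φ (gp γ L) k [] ls) {m : ℕ} (hb : Finite G ∧ Nat.card G ≤ m)
    (e : Nat.ble m (chainCard ls) = true) :
    ∃ φ, Cert φ γ k ns ts L ls ∧ ∀ g, φ g ∈ bddPerm N ∧ ∀ i < N, r g i (φ g i) := by
  haveI := hb.1
  let γ' : ℕ → gp γ L := fun j => ⟨γ j, hL j⟩
  have hg : gp γ' L = ⊤ := by
    apply Subgroup.map_injective (gp γ L).subtype_injective
    rw [← MonoidHom.range_eq_map, Subgroup.range_subtype]
    refine le_antisymm (Subgroup.map_subtype_le _) (gp_le fun a ha => ?_)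
    exact ⟨ext γ' a, ext_mem_gp γ' ha, map_ext _ γ' a⟩
  obtain ⟨φ', h2, -⟩ := exists_hom_rel hg (fun g => r g.1) h1 (fun x y => hmul x.1 y.1)
    (fun x => hinv x.1) huniq (fixAbove_sound hv hfix) hact
  have h3 := (hs _ φ' γ' ⟨hv, h2, ht⟩).le_card
  rw [St_nil, hg, Subgroup.card_top] at h3
  have h4 : gp γ L = ⊤ :=
    Subgroup.eq_top_of_le_card _ (hb.2.trans ((Nat.le_of_ble_eq_true e).trans h3))
  obtain ⟨φ, h5, h6⟩ := exists_hom_rel h4 r h1 hmul hinv huniq (fixAbove_sound hv hfix) hact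
  exact ⟨φ, Cert.of_bound ⟨hv, h5, ht⟩ h4 (hs _ φ γ ⟨hv, h5, ht⟩) hb e, h6⟩

/-! ### Vectors as lists -/

/-- The vector of a list. -/
noncomputable def vec (l : List ℤ) : V := fun p => nth 0 l (ix p)

/-- The inner product. -/
noncomputable def dotL (u v : List ℤ) : ℤ :=
  List.rec (motive := fun _ => List ℤ → ℤ) (fun _ => 0)
    (fun a _ ih v => List.rec 0 (fun b v' _ => Int.add (Int.mul a b) (ih v')) v) u v

theorem nth_nil {α : Type} (d : α) (i : ℕ) : nth d [] i = d := rfl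

theorem sum_dotL (u v : List ℤ) {n : ℕ} (h : u.length ≤ n) :
    ∑ i ∈ Finset.range n, nth 0 u i * nth 0 v i = dotL u v := by
  induction u generalizing v n with
  | nil => simp [nth_nil, dotL]
  | cons a u ih =>
    obtain ⟨n, rfl⟩ : ∃ m, n = m + 1 := ⟨n - 1, by simp at h; omega⟩
    cases v with
    | nil => simp [nth_nil, dotL]
    | cons b v =>
      rw [Finset.sum_range_succ', add_comm]
      exact congrArg (a * b + ·) (ih v (by simpa using h))

theorem sum_vec (f : ℕ → ℤ) : ∑ p, f (ix p) = ∑ i ∈ Finset.range 24, f i := by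
  rw [sum_pt]
  exact Finset.sum_congr rfl fun i hi => by rw [ix_pt i (Finset.mem_range.1 hi)]

theorem dot_vec {u : List ℤ} (v : List ℤ) (h : u.length = 24) : dotInt (vec u) (vec v) = dotL u v :=
  (sum_vec fun i => nth 0 u i * nth 0 v i).trans (sum_dotL u v h.le)

/-- The sum. -/
noncomputable def sumZ (l : List ℤ) : ℤ := List.rec 0 (fun a _ ih => Int.add a ih) l

theorem sum_sumZ (u : List ℤ) {n : ℕ} (h : u.length ≤ n) :
    ∑ i ∈ Finset.range n, nth 0 u i = sumZ u := by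
  induction u generalizing n with
  | nil => simp [nth_nil, sumZ]
  | cons a u ih =>
    obtain ⟨n, rfl⟩ : ∃ m, n = m + 1 := ⟨n - 1, by simp at h; omega⟩
    rw [Finset.sum_range_succ', add_comm]
    exact congrArg (a + ·) (ih (by simpa using h))

/-- The mask of the residues `2`, `3` modulo four. -/
noncomputable def hiM (l : List ℤ) : ℕ :=
  List.rec 0 (fun a _ ih => Nat.add (Nat.mul 2 ih) (Bool.rec 0 1 (decide (2 ≤ Int.emod a 4)))) l

theorem testBit_hiM (l : List ℤ) (i : ℕ) : (hiM l).testBit i = decide (2 ≤ nth 0 l i % 4) := by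
  induction l generalizing i with
  | nil => simp [nth_nil, hiM]
  | cons a l ih =>
    have e : hiM (a :: l) = 2 * hiM l + Bool.rec 0 1 (decide (2 ≤ a % 4)) := rfl
    cases i with
    | zero =>
      rw [e, Nat.testBit_zero]
      change _ = decide (2 ≤ a % 4)
      cases decide (2 ≤ a % 4) <;> simp
    | succ i =>
      rw [e, Nat.testBit_succ]
      change _ = decide (2 ≤ nth 0 l i % 4)
      rw [← ih]
      congr 1
      cases decide (2 ≤ a % 4)
      · simp
      · simp; omega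

theorem forall_nth {α : Type} {d : α} {l : List α} {p : α → Bool} (h : allL l p = true) {i : ℕ}
    (hi : i < l.length) : p (nth d l i) = true := by
  rw [nth_eq, List.getD_eq_getElem _ _ hi]
  exact allL_iff.1 h _ (List.getElem_mem hi)

/-- The membership test. -/
noncomputable def inL (l : List ℤ) : Bool :=
  Nat.beq l.length 24 && (fun m => (allL l fun a => decide (Int.emod a 2 = m)) &&
    (decide (Int.emod (sumZ l) 8 = Int.mul 4 m) && inC (hiM l))) (Int.emod (nth 0 l 0) 2)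

theorem inL_length {l : List ℤ} (h : inL l = true) : l.length = 24 := by
  rw [inL, Bool.and_eq_true, Nat.beq_eq] at h; exact h.1

theorem inL_sound {l : List ℤ} (h : inL l = true) : vec l ∈ leechLattice := by
  simp only [inL, Bool.and_eq_true, Nat.beq_eq, decide_eq_true_eq] at h
  obtain ⟨h1, h2, h3, h4⟩ := h
  refine mem_leech.2 ⟨⟨nth 0 l 0 % 2, fun p => ?_, ?_⟩, ?_⟩
  · exact of_decide_eq_true (forall_nth (d := 0) h2 (h1 ▸ ix_lt p))
  · have : ∑ p, vec l p = sumZ l := (sum_vec (nth 0 l)).trans (sum_sumZ l h1.le)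
    rw [this]; exact h3
  · have : hi (vec l) = fs (hiM l) := by
      ext p
      rw [mem_hi, mem_fs, testBit_hiM, decide_eq_true_eq]; rfl
    rw [this]; exact isC_fs h4

open Classical in
/-- The lattice vector of a list. -/
noncomputable def lv (l : List ℤ) : Λ := if h : vec l ∈ leechLattice then ⟨vec l, h⟩ else 0

theorem coe_lv {l : List ℤ} (h : inL l = true) : (lv l : V) = vec l := by
  rw [lv, dif_pos (inL_sound h)]

/-! ### Matrices -/

/-- `List.map` for the kernel. -/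
noncomputable def mapL {α β : Type} (f : α → β) (l : List α) : List β :=
  List.rec [] (fun a _ ih => f a :: ih) l

theorem length_mapL {α β : Type} (f : α → β) (l : List α) : (mapL f l).length = l.length := by
  induction l with
  | nil => rfl
  | cons a l ih => exact congrArg (· + 1) ih

theorem nth_mapL {α β : Type} (f : α → β) (d : α) (e : β) (l : List α) {i : ℕ} (hi : i < l.length) :
    nth e (mapL f l) i = f (nth d l i) := by
  induction l generalizing i with
  | nil => simp at hi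
  | cons a l ih => cases i with
    | zero => rfl
    | succ i => exact ih (by simpa using hi)

/-- The image of a vector under `A / 8`. -/
noncomputable def apL (A : List (List ℤ)) (l : List ℤ) : List ℤ :=
  mapL (fun r => Int.ediv (dotL r l) 8) A

/-- The generators of the lattice. -/
def genL : List (List ℤ) := [[8, 0, 0, 0, 0, 0, 0, 0, 0, 0, 0, 0, 0, 0, 0, 0, 0, 0, 0, 0, 0, 0, 0, 0],
  [4, 4, 0, 0, 0, 0, 0, 0, 0, 0, 0, 0, 0, 0, 0, 0, 0, 0, 0, 0, 0, 0, 0, 0],
  [4, 0, 4, 0, 0, 0, 0, 0, 0, 0, 0, 0, 0, 0, 0, 0, 0, 0, 0, 0, 0, 0, 0, 0],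
  [4, 0, 0, 4, 0, 0, 0, 0, 0, 0, 0, 0, 0, 0, 0, 0, 0, 0, 0, 0, 0, 0, 0, 0],
  [4, 0, 0, 0, 4, 0, 0, 0, 0, 0, 0, 0, 0, 0, 0, 0, 0, 0, 0, 0, 0, 0, 0, 0],
  [4, 0, 0, 0, 0, 4, 0, 0, 0, 0, 0, 0, 0, 0, 0, 0, 0, 0, 0, 0, 0, 0, 0, 0],
  [4, 0, 0, 0, 0, 0, 4, 0, 0, 0, 0, 0, 0, 0, 0, 0, 0, 0, 0, 0, 0, 0, 0, 0],
  [4, 0, 0, 0, 0, 0, 0, 4, 0, 0, 0, 0, 0, 0, 0, 0, 0, 0, 0, 0, 0, 0, 0, 0],
  [4, 0, 0, 0, 0, 0, 0, 0, 4, 0, 0, 0, 0, 0, 0, 0, 0, 0, 0, 0, 0, 0, 0, 0],
  [4, 0, 0, 0, 0, 0, 0, 0, 0, 4, 0, 0, 0, 0, 0, 0, 0, 0, 0, 0, 0, 0, 0, 0],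
  [4, 0, 0, 0, 0, 0, 0, 0, 0, 0, 4, 0, 0, 0, 0, 0, 0, 0, 0, 0, 0, 0, 0, 0],
  [4, 0, 0, 0, 0, 0, 0, 0, 0, 0, 0, 4, 0, 0, 0, 0, 0, 0, 0, 0, 0, 0, 0, 0],
  [4, 0, 0, 0, 0, 0, 0, 0, 0, 0, 0, 0, 4, 0, 0, 0, 0, 0, 0, 0, 0, 0, 0, 0],
  [4, 0, 0, 0, 0, 0, 0, 0, 0, 0, 0, 0, 0, 4, 0, 0, 0, 0, 0, 0, 0, 0, 0, 0],
  [4, 0, 0, 0, 0, 0, 0, 0, 0, 0, 0, 0, 0, 0, 4, 0, 0, 0, 0, 0, 0, 0, 0, 0],
  [4, 0, 0, 0, 0, 0, 0, 0, 0, 0, 0, 0, 0, 0, 0, 4, 0, 0, 0, 0, 0, 0, 0, 0],
  [4, 0, 0, 0, 0, 0, 0, 0, 0, 0, 0, 0, 0, 0, 0, 0, 4, 0, 0, 0, 0, 0, 0, 0],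
  [4, 0, 0, 0, 0, 0, 0, 0, 0, 0, 0, 0, 0, 0, 0, 0, 0, 4, 0, 0, 0, 0, 0, 0],
  [4, 0, 0, 0, 0, 0, 0, 0, 0, 0, 0, 0, 0, 0, 0, 0, 0, 0, 4, 0, 0, 0, 0, 0],
  [4, 0, 0, 0, 0, 0, 0, 0, 0, 0, 0, 0, 0, 0, 0, 0, 0, 0, 0, 4, 0, 0, 0, 0],
  [4, 0, 0, 0, 0, 0, 0, 0, 0, 0, 0, 0, 0, 0, 0, 0, 0, 0, 0, 0, 4, 0, 0, 0],
  [4, 0, 0, 0, 0, 0, 0, 0, 0, 0, 0, 0, 0, 0, 0, 0, 0, 0, 0, 0, 0, 4, 0, 0],
  [4, 0, 0, 0, 0, 0, 0, 0, 0, 0, 0, 0, 0, 0, 0, 0, 0, 0, 0, 0, 0, 0, 4, 0],
  [4, 0, 0, 0, 0, 0, 0, 0, 0, 0, 0, 0, 0, 0, 0, 0, 0, 0, 0, 0, 0, 0, 0, 4],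
  [2, 0, 0, 0, 0, 0, 0, 0, 0, 0, 0, 0, 2, 0, 2, 0, 2, 2, 2, 0, 0, 0, 2, 2],
  [0, 2, 0, 0, 0, 0, 0, 0, 0, 0, 0, 0, 2, 2, 2, 2, 2, 0, 0, 2, 0, 0, 2, 0],
  [0, 0, 2, 0, 0, 0, 0, 0, 0, 0, 0, 0, 0, 2, 2, 2, 2, 2, 0, 0, 2, 0, 0, 2],
  [0, 0, 0, 2, 0, 0, 0, 0, 0, 0, 0, 0, 2, 2, 0, 0, 0, 2, 2, 2, 0, 2, 2, 0],
  [0, 0, 0, 0, 2, 0, 0, 0, 0, 0, 0, 0, 0, 2, 2, 0, 0, 0, 2, 2, 2, 0, 2, 2],
  [0, 0, 0, 0, 0, 2, 0, 0, 0, 0, 0, 0, 2, 2, 0, 0, 2, 0, 0, 0, 2, 2, 2, 2],
  [0, 0, 0, 0, 0, 0, 2, 0, 0, 0, 0, 0, 2, 0, 0, 2, 2, 2, 0, 2, 0, 2, 0, 2],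
  [0, 0, 0, 0, 0, 0, 0, 2, 0, 0, 0, 0, 2, 0, 2, 2, 0, 2, 2, 2, 2, 0, 0, 0],
  [0, 0, 0, 0, 0, 0, 0, 0, 2, 0, 0, 0, 0, 2, 0, 2, 2, 0, 2, 2, 2, 2, 0, 0],
  [0, 0, 0, 0, 0, 0, 0, 0, 0, 2, 0, 0, 0, 0, 2, 0, 2, 2, 0, 2, 2, 2, 2, 0],
  [0, 0, 0, 0, 0, 0, 0, 0, 0, 0, 2, 0, 0, 0, 0, 2, 0, 2, 2, 0, 2, 2, 2, 2],
  [0, 0, 0, 0, 0, 0, 0, 0, 0, 0, 0, 2, 2, 2, 2, 2, 0, 0, 2, 0, 0, 2, 0, 2],
  [-3, 1, 1, 1, 1, 1, 1, 1, 1, 1, 1, 1, 1, 1, 1, 1, 1, 1, 1, 1, 1, 1, 1, 1]]

theorem GL_44 : ∀ p, e44 p = vec (nth [] genL (ix p)) := by decide +kernel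
theorem GL_2 : ∀ j < 12, ind (fs (nth 0 bas j)) 2 = vec (nth [] genL (24 + j)) := by decide +kernel
theorem GL_w : w0 = vec (nth [] genL 36) := by decide +kernel

theorem leech_le_GL {S : AddSubgroup V} (h : ∀ j < 37, vec (nth [] genL j) ∈ S) : leechLattice ≤ S :=
  leech_le (fun p => GL_44 p ▸ h _ (by have := ix_lt p; omega))
    (fun j hj => GL_2 j hj ▸ h _ (by omega)) (GL_w ▸ h _ (by omega))

/-- The matrix `A / 8` is orthogonal and preserves the lattice. -/
noncomputable def matOK (A : List (List ℤ)) : Bool :=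
  Nat.beq A.length 24 && ((allL A fun r => Nat.beq r.length 24) &&
    ((allLt 24 fun i => (fun r => allLt (Nat.succ i) fun j =>
      decide (dotL r (nth [] A j) = Bool.rec 0 64 (Nat.beq i j))) (nth [] A i)) &&
    allL genL fun b => (allL A fun r => decide (Int.emod (dotL r b) 8 = 0)) && inL (apL A b)))

/-- The rows. -/
noncomputable def row (A : List (List ℤ)) (p : GolayPt) : V := vec (nth [] A (ix p))

theorem vec_apL {A : List (List ℤ)} (h1 : A.length = 24) (h2 : ∀ i < 24, (nth [] A i).length = 24)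
    (l : List ℤ) (p : GolayPt) : vec (apL A l) p = dotInt (row A p) (vec l) / 8 := by
  rw [row, dot_vec _ (h2 _ (ix_lt p)), vec, apL, nth_mapL _ [] _ _ (h1 ▸ ix_lt p)]; rfl

theorem sqNorm_rows {R : GolayPt → V} (h : ∀ p q, dotInt (R p) (R q) = if p = q then 64 else 0)
    (x : V) : sqNorm (fun p => dotInt (R p) x) = 64 * sqNorm x := by
  let M : Matrix GolayPt GolayPt ℚ := fun p q => (R p q : ℚ) / 8
  have h1 : M * M.transpose = 1 := by
    ext p q
    have := congrArg (fun z : ℤ => (z : ℚ) / 64) (h p q)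
    simp only [dotInt, Int.cast_sum, Int.cast_mul, Finset.sum_div] at this
    rw [Matrix.mul_apply, Matrix.one_apply]
    change ∑ i, (R p i : ℚ) / 8 * (R q i / 8) = _
    rw [Finset.sum_congr rfl fun i _ => show (R p i : ℚ) / 8 * (R q i / 8) = R p i * R q i / 64 by ring,
      this]
    split_ifs <;> norm_num
  have h2 := mul_eq_one_comm.1 h1
  let y : GolayPt → ℚ := fun p => x p
  have h3 : M.mulVec y ⬝ᵥ M.mulVec y = y ⬝ᵥ y := by
    rw [Matrix.dotProduct_mulVec, Matrix.vecMul_mulVec, h2, Matrix.vecMul_one]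
  have h4 : ∀ p, M.mulVec y p = (dotInt (R p) x : ℚ) / 8 := fun p => by
    simp only [Matrix.mulVec, dotProduct, dotInt, Int.cast_sum, Int.cast_mul, Finset.sum_div, M, y]
    exact Finset.sum_congr rfl fun i _ => by ring
  simp only [dotProduct, h4, y] at h3
  apply Int.cast_injective (α := ℚ)
  simp only [sqNorm, Int.cast_sum, Int.cast_mul, Int.cast_ofNat, sq]
  rw [← h3, Finset.mul_sum]
  exact Finset.sum_congr rfl fun i _ => by ring

/-- `g` is given by the matrix `A / 8`. -/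
def IsMat (g : Perm Λ) (A : List (List ℤ)) : Prop :=
  A.length = 24 ∧ (∀ i < 24, (nth [] A i).length = 24) ∧
    ∀ (x : Λ) p, 8 * (g x : V) p = dotInt (row A p) x

theorem matOK_sound {A : List (List ℤ)} (h : matOK A = true) : ∃ g ∈ Co0, IsMat g A := by
  simp only [matOK, Bool.and_eq_true, Nat.beq_eq] at h
  obtain ⟨h1, h2, h3, h4⟩ := h
  have h2' : ∀ i < 24, (nth [] A i).length = 24 := fun i hi =>
    Nat.eq_of_beq_eq_true (forall_nth (d := []) h2 (h1 ▸ hi))
  have h5 : ∀ p q, dotInt (row A p) (row A q) = if p = q then 64 else 0 := by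
    have k : ∀ p q, ix q ≤ ix p → dotInt (row A p) (row A q) = if p = q then 64 else 0 := by
      intro p q hpq
      have := of_decide_eq_true (allLt_iff.1 (allLt_iff.1 h3 _ (ix_lt p)) (ix q) (by omega))
      rw [row, row, dot_vec _ (h2' _ (ix_lt p)), this]
      split_ifs with h
      · rw [h, Nat.beq_refl]
      · cases hb : Nat.beq (ix p) (ix q)
        · rfl
        · exact absurd (ix_inj (Nat.eq_of_beq_eq_true hb)) h
    intro p q
    rcases le_total (ix q) (ix p) with h | h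
    · exact k p q h
    · rw [dot_comm, k q p h]; simp only [eq_comm]
  let S : AddSubgroup V :=
    { carrier := {x | ∃ y ∈ leechLattice, ∀ p, 8 * y p = dotInt (row A p) x}
      zero_mem' := ⟨0, zero_mem _, fun p => by simp [dotInt]⟩
      add_mem' := by
        rintro a b ⟨y, hy, e⟩ ⟨z, hz, e'⟩
        exact ⟨y + z, add_mem hy hz, fun p => by rw [dot_add_right, ← e, ← e', Pi.add_apply, mul_add]⟩
      neg_mem' := by
        rintro a ⟨y, hy, e⟩
        exact ⟨-y, neg_mem hy, fun p => by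
          rw [dot_comm, dot_neg_left, dot_comm, ← e, Pi.neg_apply, mul_neg]⟩ }
  have h6 : leechLattice ≤ S := leech_le_GL fun j hj => by
    have := forall_nth (d := []) h4 (show j < genL.length from hj)
    rw [Bool.and_eq_true] at this
    refine ⟨_, inL_sound this.2, fun p => ?_⟩
    have h7 := of_decide_eq_true (forall_nth (d := []) this.1 (h1 ▸ ix_lt p))
    rw [vec_apL h1 h2', row, dot_vec _ (h2' _ (ix_lt p))]
    change dotL _ _ % 8 = 0 at h7
    omega
  choose f hf e using fun x : Λ => h6 x.2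
  obtain ⟨g, hg, e'⟩ := exists_co0 (fun x => ⟨f x, hf x⟩) (fun x y => Subtype.ext (funext fun p => by
      have := e (x + y) p
      rw [AddSubgroup.coe_add, dot_add_right, ← e, ← e] at this
      change f (x + y) p = f x p + f y p
      omega)) (fun x => by
      have := sqNorm_rows h5 x
      simp only [← e, sqNorm, mul_pow, ← Finset.mul_sum] at this ⊢
      omega)
  exact ⟨g, hg, h1, h2', fun x p => by rw [e']; exact e x p⟩

theorem IsMat.lv {g : Perm Λ} {A : List (List ℤ)} (h : IsMat g A) {l : List ℤ} (hl : inL l = true) :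
    (g (lv l) : V) = vec (apL A l) := by
  funext p
  rw [vec_apL h.1 h.2.1, ← coe_lv hl, ← h.2.2]
  omega

theorem IsMat.eq {g g' : Perm Λ} {A : List (List ℤ)} (h : IsMat g A) (h' : IsMat g' A) : g = g' := by
  ext x p
  have := (h.2.2 x p).trans (h'.2.2 x p).symm
  omega

/-- The matrix fixes the vectors. -/
noncomputable def fixL (A : List (List ℤ)) (F : List (List ℤ)) : Bool :=
  allL F fun l => inL l && decide (apL A l = l)

theorem IsMat.fix {g : Perm Λ} {A : List (List ℤ)} (h : IsMat g A) {F : List (List ℤ)}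
    (hF : fixL A F = true) : ∀ l ∈ F, g (Leech.lv l) = Leech.lv l := fun l hl => by
  have := allL_iff.1 hF l hl
  rw [Bool.and_eq_true, decide_eq_true_eq] at this
  exact Subtype.ext (by rw [h.lv this.1, this.2, coe_lv this.1])

/-- The elements of `Co0` fixing the listed vectors. -/
def KF (F : List (List ℤ)) : Subgroup (Perm Λ) where
  carrier := {g | g ∈ Co0 ∧ ∀ l ∈ F, g (lv l) = lv l}
  one_mem' := ⟨Co0.one_mem, fun _ _ => rfl⟩
  mul_mem' := fun {x y} hx hy => ⟨Co0.mul_mem hx.1 hy.1, fun l hl => by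
    rw [Perm.mul_apply, hy.2 l hl, hx.2 l hl]⟩
  inv_mem' := fun {x} hx => ⟨Co0.inv_mem hx.1, fun l hl => by rw [Perm.inv_eq_iff_eq, hx.2 l hl]⟩

/-- `u`. -/
def uL : List ℤ := [4, 4, 0, 0, 0, 0, 0, 0, 0, 0, 0, 0, 0, 0, 0, 0, 0, 0, 0, 0, 0, 0, 0, 0]
/-- `u'`. -/
def uL' : List ℤ := [4, -4, 0, 0, 0, 0, 0, 0, 0, 0, 0, 0, 0, 0, 0, 0, 0, 0, 0, 0, 0, 0, 0, 0]
/-- `v`. -/
def vL : List ℤ := [-5, -1, -1, -1, -1, -1, -1, -1, -1, -1, -1, -1, -1, -1, -1, -1, -1, -1, -1, -1,
  -1, -1, -1, -1]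

theorem lv_u : lv uL = leechU :=
  Subtype.ext ((coe_lv (by decide +kernel)).trans (by decide +kernel))
theorem lv_u' : lv uL' = leechU' :=
  Subtype.ext ((coe_lv (by decide +kernel)).trans (by decide +kernel))
theorem lv_v : lv vL = leechV :=
  Subtype.ext ((coe_lv (by decide +kernel)).trans (by decide +kernel))

theorem mem_KF {F : List (List ℤ)} {g : Perm Λ} : g ∈ KF F ↔ g ∈ Co0 ∧ ∀ l ∈ F, g (lv l) = lv l :=
  Iff.rfl

theorem Co0_eq : Co0 = KF [] := by ext g; simp [mem_KF]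
theorem Co2_eq : Co2 = KF [uL] := by ext g; simp [mem_KF, lv_u, Co2]
theorem Co3_eq : Co3 = KF [vL] := by ext g; simp [mem_KF, lv_v, Co3]
theorem McL_eq : McL = KF [vL, uL] := by ext g; simp [mem_KF, lv_u, lv_v, McL, Co3, and_assoc]
theorem HS_eq : HS = KF [vL, uL'] := by ext g; simp [mem_KF, lv_u', lv_v, HS, Co3, and_assoc]

open Classical in
/-- The generators given by matrices. -/
noncomputable def γM (K : Subgroup (Perm Λ)) (As : List (List (List ℤ))) (j : ℕ) : K :=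
  if h : ∃ g ∈ K, IsMat g (nth [] As j) then ⟨h.choose, h.choose_spec.1⟩ else 1

theorem γM_of_le (K : Subgroup (Perm Λ)) {As : List (List (List ℤ))} {j : ℕ} (hj : As.length ≤ j) :
    γM K As j = 1 := by
  rw [γM, dif_neg]
  rintro ⟨g, -, h, -⟩
  rw [nth_eq, List.getD_eq_default _ _ hj] at h
  simp at h

theorem γM_isMat {K : Subgroup (Perm Λ)} {F : List (List ℤ)} (hK : K = KF F)
    {As : List (List (List ℤ))} {j : ℕ} (h : matOK (nth [] As j) = true)
    (hF : fixL (nth [] As j) F = true) : IsMat (γM K As j) (nth [] As j) := by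
  have h1 : ∃ g ∈ K, IsMat g (nth [] As j) := by
    obtain ⟨g, hg, h2⟩ := matOK_sound h
    exact ⟨g, hK ▸ ⟨hg, h2.fix hF⟩, h2⟩
  rw [γM, dif_pos h1]
  exact h1.choose_spec.2

theorem γM_mem_gp (K : Subgroup (Perm Λ)) {As : List (List (List ℤ))} {L : List ℕ}
    (h : (allLt As.length fun j => memL (Nat.mul 2 j) L) = true) (j : ℕ) :
    γM K As j ∈ gp (γM K As) L := by
  by_cases hj : j < As.length
  · have := ext_mem_gp (γM K As) (memL_sound (allLt_iff.1 h j hj))
    rwa [show Nat.mul 2 j = 2 * j from rfl, ext_two_mul] at this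
  · rw [γM_of_le K (by omega)]; exact one_mem _

/-! ### Classes modulo `2 Λ + ℤ f` -/

/-- The subgroup `2 Λ + ℤ f`. -/
def Mf (f : Λ) : AddSubgroup Λ where
  carrier := {x | ∃ a : ℤ, ∃ w : Λ, x = a • f + (2 : ℤ) • w}
  zero_mem' := ⟨0, 0, by simp⟩
  add_mem' := by
    rintro _ _ ⟨a, w, rfl⟩ ⟨b, z, rfl⟩
    exact ⟨a + b, w + z, by rw [add_smul, smul_add]; abel⟩
  neg_mem' := by
    rintro _ ⟨a, w, rfl⟩
    exact ⟨-a, -w, by rw [neg_smul, smul_neg]; abel⟩

theorem two_mem_Mf (f x : Λ) : x + x ∈ Mf f := ⟨0, x, by rw [zero_smul, zero_add, two_smul]⟩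

theorem map_mem_Mf {g : Perm Λ} (hg : g ∈ Co0) {f : Λ} (hf : g f ∈ Mf f) {x : Λ} (hx : x ∈ Mf f) :
    g x ∈ Mf f := by
  obtain ⟨a, w, rfl⟩ := hx
  rw [co0_add hg, co0_zsmul hg, co0_zsmul hg, two_smul]
  exact add_mem (zsmul_mem hf a) (two_mem_Mf _ _)

/-- The data of a model: a fixed vector, a basis modulo `2 Λ + ℤ f`, the dual vectors, the planes
of the points and their number. -/
structure MD where
  f : List ℤ
  B : List (List ℤ)
  D : List (List ℤ)
  P : List ℕ
  N : ℕ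

/-- A sum of selected vectors. -/
noncomputable def sel (B : List (List ℤ)) (c : ℕ → Bool) : Λ :=
  ∑ t ∈ Finset.range B.length, if c t = true then lv (nth [] B t) else 0

/-- Coordinatewise difference. -/
noncomputable def subL (u v : List ℤ) : List ℤ :=
  List.rec (motive := fun _ => List ℤ → List ℤ) (fun _ => [])
    (fun a _ ih v => List.rec [] (fun b v' _ => Int.sub a b :: ih v') v) u v

theorem subL_spec {u v : List ℤ} (h : u.length = v.length) :
    (subL u v).length = u.length ∧ ∀ i, nth 0 (subL u v) i = nth 0 u i - nth 0 v i := by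
  induction u generalizing v with
  | nil =>
    cases v with
    | nil => exact ⟨rfl, fun _ => rfl⟩
    | cons b v => simp at h
  | cons a u ih =>
    cases v with
    | nil => simp at h
    | cons b v =>
      obtain ⟨h1, h2⟩ := ih (v := v) (by simpa using h)
      exact ⟨congrArg (· + 1) h1, fun i => by
        cases i with
        | zero => rfl
        | succ i => exact h2 i⟩

/-- Subtract the vectors `B t` for which bit `s` of `rows t` is set. -/
noncomputable def subSel (B : List (List ℤ)) (rows : List ℕ) (s : ℕ) (y : List ℤ) : List ℤ :=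
  List.rec (motive := fun _ => List ℕ → List ℤ) (fun _ => y)
    (fun b _ ih rows => List.rec (ih []) (fun r rows' _ =>
      Bool.rec (ih rows') (subL (ih rows') b) (Nat.testBit r s)) rows) B rows

theorem subSel_spec {B : List (List ℤ)} (hB : allL B inL = true) (rows : List ℕ) (s : ℕ)
    {y : List ℤ} (hy : y.length = 24) : (subSel B rows s y).length = 24 ∧
      vec (subSel B rows s y) = vec y - (sel B fun t => (nth 0 rows t).testBit s : Λ) := by
  induction B generalizing rows with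
  | nil => exact ⟨hy, by simp [sel, subSel]⟩
  | cons b B ih =>
    have hB' : (inL b && allL B inL) = true := hB
    rw [Bool.and_eq_true] at hB'
    have e : ∀ c : ℕ → Bool, sel (b :: B) c =
        sel B (fun t => c (t + 1)) + if c 0 = true then lv b else 0 := fun c => by
      rw [sel, List.length_cons, Finset.sum_range_succ']; rfl
    rw [e]
    cases rows with
    | nil =>
      have := ih hB'.2 []
      simp only [nth_nil, Nat.zero_testBit, Bool.false_eq_true, if_false, add_zero] at this ⊢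
      exact this
    | cons r rows =>
      have := ih hB'.2 rows
      have e1 : subSel (b :: B) (r :: rows) s y = Bool.rec (motive := fun _ => List ℤ)
        (subSel B rows s y) (subL (subSel B rows s y) b) (r.testBit s) := rfl
      rw [e1]
      change _ ∧ _ = vec y - ((sel B (fun t => (nth 0 rows t).testBit s) +
        if r.testBit s = true then lv b else 0 : Λ) : V)
      cases r.testBit s
      · simpa using this
      · obtain ⟨h1, h2⟩ := subL_spec (this.1.trans (inL_length hB'.1).symm)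
        refine ⟨h1.trans this.1, ?_⟩
        rw [if_pos rfl, AddSubgroup.coe_add, coe_lv hB'.1, ← sub_sub, ← this.2]
        exact funext fun p => h2 _

/-- The vector is twice a lattice vector. -/
noncomputable def in2L (z : List ℤ) : Bool :=
  (allL z fun a => decide (Int.emod a 2 = 0)) && inL (mapL (fun a => Int.ediv a 2) z)

theorem in2L_sound {z : List ℤ} (h : in2L z = true) : ∃ w : Λ, vec z = (2 : ℤ) • (w : V) := by
  rw [in2L, Bool.and_eq_true] at h
  have h1 := inL_length h.2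
  rw [length_mapL] at h1
  refine ⟨⟨_, inL_sound h.2⟩, funext fun p => ?_⟩
  have h2 := of_decide_eq_true (forall_nth (d := 0) h.1 (h1 ▸ ix_lt p))
  change nth 0 z (ix p) = 2 * nth 0 (mapL (fun a => Int.ediv a 2) z) (ix p)
  rw [nth_mapL _ 0 _ _ (h1 ▸ ix_lt p)]
  change nth 0 z (ix p) % 2 = 0 at h2
  change _ = 2 * (nth 0 z (ix p) / 2)
  omega

theorem hom_sel {Q : Type*} [AddCommGroup Q] [Module (ZMod 2) Q] (φ : Λ →+ Q) (B : List (List ℤ))
    (c : ℕ → Bool) :
    φ (sel B c) = ∑ t ∈ Finset.range B.length, bt (ZMod 2) (c t) • φ (lv (nth [] B t)) := by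
  rw [sel, map_sum]
  refine Finset.sum_congr rfl fun t _ => ?_
  cases c t <;> simp [bt]

theorem hom_rows {Q : Type*} [AddCommGroup Q] [Module (ZMod 2) Q] (φ ψ : Λ →+ Q) {B : List (List ℤ)}
    {rows P : List ℕ} (h4 : P.length = B.length) {i j : ℕ}
    (k1 : ∀ s ∈ Finset.range B.length, φ (lv (nth [] B s)) =
      ψ (sel B fun t => (nth 0 rows t).testBit s))
    (e : ∀ t, (nth 0 (mulP rows P) t).testBit i = (nth 0 P t).testBit j) :
    φ (sel B fun t => (nth 0 P t).testBit i) = ψ (sel B fun t => (nth 0 P t).testBit j) := by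
  rw [hom_sel, hom_sel, Finset.sum_congr rfl fun s hs => by rw [k1 s hs, hom_sel]]
  simp only [Finset.smul_sum, smul_smul, ← e, nth_mulP, bt_xorSel, h4, Finset.sum_smul]
  rw [Finset.sum_comm]
  exact Finset.sum_congr rfl fun t _ => Finset.sum_congr rfl fun s _ => by rw [mul_comm]

namespace MD

variable (M : MD)

/-- The points. -/
noncomputable def pt (i : ℕ) : Λ := sel M.B fun t => (nth 0 M.P t).testBit i

/-- The relation. -/
def Rel (g : Perm Λ) (i j : ℕ) : Prop := g (M.pt i) - M.pt j ∈ Mf (lv M.f)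

/-- The test of the data (without the order of the columns). -/
noncomputable def ok : Bool :=
  inL M.f && (allL M.B inL && (allL M.D inL && (Nat.beq M.P.length M.B.length &&
    (Nat.beq M.D.length M.B.length &&
    allLt M.B.length fun t => (fun d => decide (Int.emod (dotL M.f d) 16 = 0) &&
      allLt M.B.length fun s =>
        decide (Int.emod (dotL (nth [] M.B s) d) 16 = Bool.rec 0 8 (Nat.beq s t))) (nth [] M.D t)))))

/-- The vector lies in `2 Λ + ℤ f`. -/
noncomputable def inM (z : List ℤ) : Bool := in2L z || in2L (subL z M.f)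

/-- The bit matrix describes the action of `A` on the basis. -/
noncomputable def rowsOK (A : List (List ℤ)) (rows : List ℕ) : Bool :=
  M.inM (apL A M.f) && allLt M.B.length fun s => M.inM (subSel M.B rows s (apL A (nth [] M.B s)))

variable {M}

theorem inM_sound (h : M.ok = true) {z : List ℤ} (hz : z.length = 24) (h1 : M.inM z = true) {x : Λ}
    (hx : (x : V) = vec z) : x ∈ Mf (lv M.f) := by
  simp only [ok, Bool.and_eq_true] at h
  rw [inM, Bool.or_eq_true] at h1
  rcases h1 with h1 | h1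
  · obtain ⟨w, hw⟩ := in2L_sound h1
    exact ⟨0, w, Subtype.ext (by simpa [hx] using hw)⟩
  · obtain ⟨w, hw⟩ := in2L_sound h1
    refine ⟨1, w, Subtype.ext ?_⟩
    rw [one_smul, AddSubgroup.coe_add, AddSubgroupClass.coe_zsmul, ← hw, hx, coe_lv h.1]
    funext p
    have := (subL_spec (hz.trans (inL_length h.1).symm)).2 (ix p)
    change nth 0 z (ix p) = nth 0 M.f (ix p) + nth 0 (subL z M.f) (ix p)
    omega

theorem rel_one (i : ℕ) : M.Rel 1 i i := by
  rw [Rel, Perm.one_apply, sub_self]; exact zero_mem _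

theorem Rel.mul {x y : Perm Λ} (hx : x ∈ Co0) (hf : x (lv M.f) ∈ Mf (lv M.f)) {i j l : ℕ}
    (h : M.Rel y i j) (h' : M.Rel x j l) : M.Rel (x * y) i l := by
  have := add_mem (map_mem_Mf hx hf h) h'
  rwa [co0_sub hx, sub_add_sub_cancel] at this

theorem Rel.inv {x : Perm Λ} (hx : x ∈ Co0) (hf : x⁻¹ (lv M.f) ∈ Mf (lv M.f)) {i j : ℕ}
    (h : M.Rel x i j) : M.Rel x⁻¹ j i := by
  have := neg_mem (map_mem_Mf (Co0.inv_mem hx) hf h)
  rwa [co0_sub (Co0.inv_mem hx), perm_inv_apply, neg_sub] at this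

theorem Rel.neg {x : Perm Λ} {i j : ℕ} (h : M.Rel (neg1.1 * x) i j) : M.Rel x i j := by
  have := add_mem h (two_mem_Mf _ (x (M.pt i)))
  rw [Perm.mul_apply, neg1_apply] at this
  rw [Rel]
  convert this using 1
  abel

theorem dot_sel (h : M.ok = true) (c : ℕ → Bool) {t : ℕ} (ht : t < M.B.length) :
    dotInt (sel M.B c : V) (vec (nth [] M.D t)) % 16 = if c t = true then 8 else 0 := by
  simp only [ok, Bool.and_eq_true, Nat.beq_eq] at h
  obtain ⟨-, h2, -, -, -, h6⟩ := h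
  have h7 := allLt_iff.1 h6 t ht
  rw [Bool.and_eq_true] at h7
  have k : ∀ n ≤ M.B.length, dotInt ((∑ s ∈ Finset.range n,
      if c s = true then lv (nth [] M.B s) else 0 : Λ) : V) (vec (nth [] M.D t)) % 16 =
      if t < n ∧ c t = true then 8 else 0 := by
    intro n hn
    induction n with
    | zero => simp [dot_zero_left]
    | succ n ih =>
      have h8 := forall_nth (d := []) h2 (show n < _ by omega)
      have h9 := of_decide_eq_true (allLt_iff.1 h7.2 n (by omega))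
      rw [← dot_vec _ (inL_length h8), ← coe_lv h8] at h9
      have h10 := ih (by omega)
      rw [Finset.sum_range_succ, AddSubgroup.coe_add, dot_add_left]
      change dotInt _ _ % 16 = _ at h9
      by_cases e : n = t
      · subst e
        rw [Nat.beq_refl] at h9
        change _ = (8 : ℤ) at h9
        cases c n
        · simpa [dot_zero_left] using h10
        · simp only [lt_irrefl, false_and, if_false, if_true, Nat.lt_succ_self, and_self] at h10 ⊢
          omega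
      · have e1 : Nat.beq n t = false := by
          cases hb : Nat.beq n t
          · rfl
          · exact absurd (Nat.eq_of_beq_eq_true hb) e
        rw [e1] at h9
        change _ = (0 : ℤ) at h9
        have e2 : t < n + 1 ↔ t < n := by omega
        simp only [e2]
        rw [← h10]
        cases c n
        · simp [dot_zero_left]
        · simp only [if_true]; omega
  have := k _ le_rfl
  simp only [ht, true_and] at this
  exact this

theorem Rel.uniq (h : M.ok = true) (hs : sortedB M.P M.N = true) {i j : ℕ} (hi : i < M.N)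
    (hj : j < M.N) (hr : M.Rel 1 i j) : i = j := by
  refine sortedB_sound hs hi hj fun t => ?_
  have h' := h
  simp only [ok, Bool.and_eq_true, Nat.beq_eq] at h'
  obtain ⟨h1, -, h3, h4, h5, h6⟩ := h'
  by_cases ht : t < M.B.length
  · obtain ⟨a, w, e⟩ := hr
    have h7 := allLt_iff.1 h6 t ht
    rw [Bool.and_eq_true] at h7
    have h8 := of_decide_eq_true h7.1
    rw [← dot_vec _ (inL_length h1), ← coe_lv h1] at h8
    change dotInt _ _ % 16 = 0 at h8
    have h9 := eight_dvd_dot w.2 (inL_sound (forall_nth (d := []) h3 (show t < _ by omega)))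
    have h10 := congrArg (fun x : Λ => dotInt (x : V) (vec (nth [] M.D t))) e
    simp only [Perm.one_apply, AddSubgroupClass.coe_sub, AddSubgroup.coe_add,
      AddSubgroupClass.coe_zsmul, dot_sub_left, dot_add_left, dot_smul_left] at h10
    have h11 := dot_sel h (fun t => (nth 0 M.P t).testBit i) ht
    have h12 := dot_sel h (fun t => (nth 0 M.P t).testBit j) ht
    obtain ⟨q, hq⟩ := Int.dvd_of_emod_eq_zero h8
    rw [hq, ← mul_assoc, mul_comm a, mul_assoc] at h10
    unfold MD.pt at h10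
    revert h11 h12
    cases (nth 0 M.P t).testBit i <;> cases (nth 0 M.P t).testBit j <;> simp <;> omega
  · rw [nth_eq, List.getD_eq_default _ _ (by omega)]; simp

theorem rowsOK_f (h : M.ok = true) {g : Perm Λ} {A : List (List ℤ)} (hA : IsMat g A)
    {rows : List ℕ} (hr : M.rowsOK A rows = true) : g (lv M.f) ∈ Mf (lv M.f) := by
  rw [rowsOK, Bool.and_eq_true] at hr
  refine inM_sound h ((length_mapL _ _).trans hA.1) hr.1 (hA.lv ?_)
  simp only [ok, Bool.and_eq_true] at h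
  exact h.1

theorem rel_of_rows (h : M.ok = true) {g : Perm Λ} (hg : g ∈ Co0) {A : List (List ℤ)}
    (hA : IsMat g A) {rows : List ℕ} (hr : M.rowsOK A rows = true) {i j : ℕ}
    (e : ∀ t, (nth 0 (mulP rows M.P) t).testBit i = (nth 0 M.P t).testBit j) : M.Rel g i j := by
  have h' := h
  simp only [ok, Bool.and_eq_true, Nat.beq_eq] at h'
  obtain ⟨-, h2, -, h4, -, -⟩ := h'
  rw [rowsOK, Bool.and_eq_true] at hr
  let q := QuotientAddGroup.mk' (Mf (lv M.f))
  have k1 : ∀ s ∈ Finset.range M.B.length, q.comp (toAdd hg) (lv (nth [] M.B s)) =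
      q (sel M.B fun t => (nth 0 rows t).testBit s) := fun s hs => by
    have hs' := Finset.mem_range.1 hs
    obtain ⟨h5, h6⟩ := subSel_spec h2 rows s (y := apL A (nth [] M.B s)) ((length_mapL _ _).trans hA.1)
    rw [← sub_eq_zero, AddMonoidHom.comp_apply, ← map_sub]
    refine (QuotientAddGroup.eq_zero_iff _).2 (inM_sound h h5 (allLt_iff.1 hr.2 s hs') ?_)
    rw [h6, AddSubgroupClass.coe_sub, toAdd_apply, hA.lv (forall_nth (d := []) h2 hs')]
  refine (QuotientAddGroup.eq_zero_iff _).1 ?_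
  change q _ = 0
  rw [map_sub, sub_eq_zero]
  letI : Module (ZMod 2) (Λ ⧸ Mf (lv M.f)) := AddCommGroup.zmodModule (n := 2) (by
    intro x
    induction x using QuotientAddGroup.induction_on with
    | H x => exact (QuotientAddGroup.eq_zero_iff (2 • x)).2 (by rw [two_smul]; exact two_mem_Mf _ x))
  exact hom_rows _ q h4 k1 e

theorem rel_net (h : M.ok = true) {g : Perm Λ} (hg : g ∈ Co0) {A : List (List ℤ)}
    (hA : IsMat g A) {rows : List ℕ} (hr : M.rowsOK A rows = true) {B : ℕ} {ns : List Net}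
    (hv : validAll B ns = true) {j : ℕ}
    (e : beqL (mulP rows M.P) (gatP ns (2 * j) M.P) = true) (i : ℕ) : M.Rel g i (netPerm ns j i) := by
  refine rel_of_rows h hg hA hr fun t => ?_
  rw [beqL_sound e]
  have : CGT.lp ns (2 * j) = netPerm ns j := ext_two_mul _ j
  rw [← this]
  generalize M.P = P
  induction P generalizing t with
  | nil => show Nat.testBit 0 _ = Nat.testBit 0 _; simp
  | cons b P ih =>
    cases t with
    | zero => exact testBit_gat hv _ _ _
    | succ t => exact ih t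

variable (M)

/-- The test of one generator. -/
noncomputable def genOK (F : List (List ℤ)) (A : List (List ℤ)) (rows : List ℕ) : Bool :=
  matOK A && (fixL A F && M.rowsOK A rows)

/-- What is proved about generator `j`. -/
def GenOK (F : List (List ℤ)) (As : List (List (List ℤ))) (ns : List Net) (j : ℕ) : Prop :=
  ∃ rows, M.genOK F (nth [] As j) rows = true ∧ beqL (mulP rows M.P) (gatP ns (2 * j) M.P) = true

variable {M}

theorem rel_γ (h : M.ok = true) {K : Subgroup (Perm Λ)} {F : List (List ℤ)} (hK : K = KF F)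
    {As : List (List (List ℤ))} {B : ℕ} {ns : List Net} (hv : validAll B ns = true)
    (hl : ns.length = As.length) (hg : ∀ j < As.length, M.GenOK F As ns j) (j i : ℕ) :
    M.Rel (γM K As j) i (netPerm ns j i) := by
  by_cases hj : j < As.length
  · obtain ⟨rows, h1, h2⟩ := hg j hj
    simp only [genOK, Bool.and_eq_true] at h1
    have h3 : (γM K As j).1 ∈ KF F := hK ▸ (γM K As j).2
    exact rel_net h h3.1 (γM_isMat hK h1.1 h1.2.1) h1.2.2 hv h2 i
  · rw [γM_of_le K (by omega), netPerm_of_le ns (by omega)]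
    exact rel_one i

theorem fix_f {F : List (List ℤ)} (hf : lv M.f = 0 ∨ M.f ∈ F) {g : Perm Λ} (hg : g ∈ KF F) :
    g (lv M.f) ∈ Mf (lv M.f) := by
  rcases hf with hf | hf
  · have : g 0 = 0 := map_zero (toAdd hg.1)
    rw [hf, this]; exact zero_mem _
  · rw [hg.2 _ hf]; exact ⟨1, 0, by simp⟩

/-- The certificate for a vector stabiliser. -/
theorem cert (h : M.ok = true) (hs : sortedB M.P M.N = true) {K : Subgroup (Perm Λ)}
    {F : List (List ℤ)} (hK : K = KF F) (hf : lv M.f = 0 ∨ M.f ∈ F) {As : List (List (List ℤ))}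
    {k : ℕ} {ns : List Net} {ts : List Tab} {L : List ℕ} {ls : List Level}
    (hv : validAll (2 ^ k) ns = true) (hfix : fixAbove k M.N ns = true)
    (hl : ns.length = As.length) (hg : ∀ j < As.length, M.GenOK F As ns j)
    (hL : (allLt As.length fun j => memL (Nat.mul 2 j) L) = true) (ht : TabsOK k (CGT.lp ns) ts)
    (hc : ∀ (H : Type) [Group H] (φ : H →* Perm ℕ) (γ : ℕ → H), Model φ γ k ns ts →
      ChainSound φ (gp γ L) k [] ls) {m : ℕ} (hb : Bd K m) (e : Nat.ble m (chainCard ls) = true) :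
    ∃ φ, Cert φ (γM K As) k ns ts L ls ∧
      ∀ g : K, φ g ∈ bddPerm M.N ∧ ∀ i < M.N, M.Rel g i (φ g i) := by
  have hm : ∀ g : K, g.1 ∈ KF F := fun g => hK ▸ g.2
  exact cert_of_rel (fun g : K => M.Rel g) (fun i _ => rel_one i)
    (fun x _ _ _ _ _ _ _ h1 h2 => h1.mul (hm x).1 (fix_f hf (hm x)) h2)
    (fun x _ _ _ _ h1 => h1.inv (hm x).1 (fix_f hf (hm x⁻¹))) (fun _ _ hi hj => Rel.uniq h hs hi hj)
    hv hfix (fun j i _ => rel_γ h hK hv hl hg j i) (γM_mem_gp K hL) ht hc hb e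

/-- The certificate for `Co1`. -/
theorem cert1 (h : M.ok = true) (hs : sortedB M.P M.N = true) (hf : lv M.f = 0)
    {As : List (List (List ℤ))} {k : ℕ} {ns : List Net} {ts : List Tab} {L : List ℕ}
    {ls : List Level} (hv : validAll (2 ^ k) ns = true) (hfix : fixAbove k M.N ns = true)
    (hl : ns.length = As.length) (hg : ∀ j < As.length, M.GenOK [] As ns j)
    (hL : (allLt As.length fun j => memL (Nat.mul 2 j) L) = true) (ht : TabsOK k (CGT.lp ns) ts)
    (hc : ∀ (H : Type) [Group H] (φ : H →* Perm ℕ) (γ : ℕ → H), Model φ γ k ns ts →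
      ChainSound φ (gp γ L) k [] ls) (e : Nat.ble 4157776806543360000 (chainCard ls) = true) :
    ∃ φ, Cert φ (fun j => (γM Co0 As j : Co1)) k ns ts L ls ∧
      ∀ g : Co0, φ (g : Co1) ∈ bddPerm M.N ∧ ∀ i < M.N, M.Rel g i (φ (g : Co1) i) := by
  have hm : ∀ g : Co0, g.1 (lv M.f) ∈ Mf (lv M.f) := fun g =>
    fix_f (F := []) (Or.inl hf) ⟨g.2, by simp⟩
  have key : ∀ (g g' : Co0) i j, (g : Co1) = g' → M.Rel g i j → M.Rel g' i j := by
    intro g g' i j e hr
    rcases mem_center (QuotientGroup.eq.1 e) with h1 | h1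
    · rwa [← inv_mul_eq_one.1 h1]
    · have : g = neg1 * g' := by
        rw [← Subgroup.mem_center_iff.1 neg1_mem, eq_mul_inv_of_mul_eq (inv_mul_eq_iff_eq_mul.1 h1).symm]
        congr 1
      rw [this] at hr
      exact Rel.neg hr
  obtain ⟨φ, h1, h2⟩ := cert_of_rel (γ := fun j => (γM Co0 As j : Co1)) (L := L)
    (fun q i j => ∃ g : Co0, (g : Co1) = q ∧ M.Rel g i j) (fun i _ => ⟨1, rfl, rel_one i⟩)
    (by rintro _ _ i j l - - - ⟨y, rfl, h1⟩ ⟨x, rfl, h2⟩; exact ⟨x * y, rfl, h1.mul x.2 (hm x) h2⟩)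
    (by rintro _ i j - - ⟨x, rfl, h1⟩; exact ⟨x⁻¹, rfl, h1.inv x.2 (hm x⁻¹)⟩)
    (by rintro i j hi hj ⟨x, e, h1⟩; exact Rel.uniq h hs hi hj (key x 1 i j e h1))
    hv hfix (fun j i _ => ⟨_, rfl, rel_γ h Co0_eq hv hl hg j i⟩) (fun j => by
      have : gp (γM Co0 As) L ≤ (gp (fun j => (γM Co0 As j : Co1)) L).comap (QuotientGroup.mk' _) :=
        gp_le fun a ha => by
          rw [Subgroup.mem_comap, map_ext]; exact ext_mem_gp _ ha
      exact this (γM_mem_gp Co0 hL j)) ht hc bd_Co1 e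
  refine ⟨φ, h1, fun g => ⟨(h2 g).1, fun i hi => ?_⟩⟩
  obtain ⟨g', e, h3⟩ := (h2 g).2 i hi
  exact key g' g _ _ e h3

/-- The automorphism induced by a normalising matrix. -/
theorem exists_aut (h : M.ok = true) (hs : sortedB M.P M.N = true) {K : Subgroup (Perm Λ)}
    {F : List (List ℤ)} (hK : K = KF F) (hf : lv M.f = 0 ∨ M.f ∈ F) {γ : ℕ → K} {φ : K →* Perm ℕ}
    {k : ℕ} {ns : List Net} {ts : List Tab} {L : List ℕ} {ls : List Level}
    (C : Cert φ γ k ns ts L ls) (hφ : ∀ g : K, φ g ∈ bddPerm M.N ∧ ∀ i < M.N, M.Rel g i (φ g i))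
    {n : Perm Λ} (hn : n ∈ Co0) (hnK : ∀ g ∈ K, n * g * n⁻¹ ∈ K)
    (hnf : n (lv M.f) ∈ Mf (lv M.f)) (hnf' : n⁻¹ (lv M.f) ∈ Mf (lv M.f)) {p : Perm ℕ}
    (hp : p ∈ bddPerm M.N) (hnp : ∀ i, M.Rel n i (p i)) {W : List (List ℕ)}
    (hW : ∀ j, p * netPerm ns j * p⁻¹ = ev (CGT.lp ns) (nth [] W j)) :
    ∃ β : MulAut K, ∀ j, β (γ j) = wg γ W j := by
  haveI := C.fin
  refine exists_aut_conj C.gen n fun j => ?_
  have hm : ∀ g : K, g.1 ∈ KF F := fun g => hK ▸ g.2
  let z : K := ⟨_, hnK _ (γ j).2⟩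
  change z.1 = _
  congr 1
  apply C.injective
  rw [wg, C.M.map_ev', ← hW, ← C.M.gen]
  ext i
  by_cases hi : i < M.N
  · have h1 := bddPerm_lt ((bddPerm _).inv_mem hp) hi
    have h2 := hnp (p⁻¹ i)
    rw [perm_apply_inv] at h2
    have h3 := ((h2.inv hn hnf').mul (hm (γ j)).1 (fix_f hf (hm (γ j))) ((hφ (γ j)).2 _ h1)).mul hn hnf
      (hnp _)
    rw [← mul_assoc] at h3
    have h4 := (((hφ z).2 i hi).inv (hm z).1 (fix_f hf (hm z⁻¹))).mul (hm z).1 (fix_f hf (hm z)) h3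
    rw [mul_inv_cancel] at h4
    exact Rel.uniq h hs (bddPerm_lt (hφ z).1 hi) (bddPerm_lt hp (bddPerm_lt (hφ (γ j)).1 h1)) h4
  · rw [(hφ z).1 i (by omega)]
    exact (((bddPerm _).mul_mem ((bddPerm _).mul_mem hp (hφ (γ j)).1) ((bddPerm _).inv_mem hp)) i
      (by omega)).symm

end MD

end Cfsg.Agent.Leech
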